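import Groth.Agent.FibreFlatSp.Noeth
import Groth.Agent.ASp.LocP
import Groth.Agent.ASp.UnramDiag

/-!
The fibrewise criterion of flatness for morphisms of algebraic spaces.
-/

set_option autoImplicit false
set_option backward.isDefEq.respectTransparency false
set_option backward.isDefEq.respectTransparency.types false

universe u

open CategoryTheory CategoryTheory.Limits AlgebraicGeometry Opposite

namespace Groth.Agent.FibreFlatSp

open _root_.AlgSp Groth.Agent.ASp

variable {S : Scheme.{u}} {X Y Z : Sp S}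

/-- The chart of a base change to a scheme over the chart of the target. -/
theorem exists_fibre_chart {F : X ⟶ Z} {U W T : Over S} {a : (yon S).obj U ⟶ X} {c : (yon S).obj W ⟶ Z}
    {h : U ⟶ W} (ha : RepWith @Etale a) (hc : RepWith @Etale c) (e : a ≫ F = (yon S).map h ≫ c) (j : T ⟶ W) :
    ∃ m : (yon S).obj (pullback h j) ⟶ pullback F ((yon S).map j ≫ c), RepWith @Etale m ∧
      m ≫ pullback.fst _ _ = (yon S).map (pullback.fst h j) ≫ a ∧
      m ≫ pullback.snd _ _ = (yon S).map (pullback.snd h j) := by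
  have hdc : RepWith @Etale (pullback.diagonal c) :=
    (repWith_diagonal_iff hc.1).2 ⟨hc.1, fun {U' V'} g fst snd sq => by
      haveI : Etale snd.left := hc.2 g fst snd sq
      show Etale (pullback.diagonal snd.left)
      infer_instance⟩
  let m₁ := pullback.map ((yon S).map h) ((yon S).map j) ((yon S).map h ≫ c) ((yon S).map j ≫ c)
    (𝟙 _) (𝟙 _) c (Category.id_comp _).symm (Category.id_comp _).symm
  have hm₁e : RepWith @Etale m₁ :=
    repWith_of_isPullback (pullback_map_diagonal_isPullback ((yon S).map h) ((yon S).map j) c) hdc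
  let m₂ : pullback ((yon S).map h ≫ c) ((yon S).map j ≫ c) ⟶ pullback F ((yon S).map j ≫ c) :=
    pullback.map _ _ _ _ a (𝟙 _) (𝟙 Z) ((Category.comp_id _).trans e.symm)
      ((Category.comp_id _).trans (Category.id_comp _).symm)
  have hm₂ : RepWith @Etale m₂ :=
    MorphismProperty.pullbackMap (P := RepWith (S := S) @Etale) ha (repWith_of_isIso _) e.symm
      (Category.id_comp _).symm
  let i := (isPullback_yon_map (IsPullback.of_hasPullback h j)).isoPullback
  refine ⟨(i.hom ≫ m₁) ≫ m₂, repWith_comp (repWith_comp (repWith_of_isIso i.hom) hm₁e) hm₂, ?_, ?_⟩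
  · simp [m₁, m₂, pullback.map, i]
  · simp [m₁, m₂, pullback.map, i]

/-- A scheme level criterion for flatness from flatness of fibre maps. -/
def Crit (Q : ∀ {U V W : Scheme.{u}}, (U ⟶ V) → (V ⟶ W) → Prop) : Prop :=
  ∀ {U V W : Scheme.{u}} (k : U ⟶ V) (r : V ⟶ W), Q k r → Flat (k ≫ r) →
    (∀ s, Flat (MoreMor.fiberMap k r s)) → ∀ u, (r.stalkMap (k u)).hom.Flat ∧ (k.stalkMap u).hom.Flat

variable {f : X ⟶ Y} {h : Y ⟶ Z}

/-- Flatness of the fibres of a chart. -/
theorem flat_fiberMap_of_chart
    (hfib : ∀ (K : Type u) [Field K] (sK : Spec (CommRingCat.of K) ⟶ S)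
      (z : (yon S).obj (Over.mk sK) ⟶ Z) (Xz Yz : Sp S)
      (pX : Xz ⟶ X) (qX : Xz ⟶ (yon S).obj (Over.mk sK))
      (pY : Yz ⟶ Y) (qY : Yz ⟶ (yon S).obj (Over.mk sK)) (fz : Xz ⟶ Yz),
      IsPullback pX qX (f ≫ h) z → IsPullback pY qY h z → fz ≫ pY = pX ≫ f → fz ≫ qY = qX →
      LocP @Flat fz)
    {U V W : Over S} {a : (yon S).obj U ⟶ X} {b : (yon S).obj V ⟶ Y} {c : (yon S).obj W ⟶ Z}
    {k : U ⟶ V} {r : V ⟶ W} (ha : RepWith @Etale a) (hb : RepWith @Etale b) (hc : RepWith @Etale c)
    (e₁ : a ≫ f = (yon S).map k ≫ b) (e₂ : b ≫ h = (yon S).map r ≫ c) (s : ↥W.left) :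
    Flat (MoreMor.fiberMap k.left r.left s) := by
  let T : Over S := Over.mk (W.left.fromSpecResidueField s ≫ W.hom)
  let j : T ⟶ W := Over.homMk (W.left.fromSpecResidueField s) rfl
  have e : a ≫ f ≫ h = (yon S).map (k ≫ r) ≫ c := by
    rw [← Category.assoc, e₁, Category.assoc, e₂, Functor.map_comp, Category.assoc]
  obtain ⟨α, hα, hα1, hα2⟩ := exists_fibre_chart (F := f ≫ h) ha hc e j
  obtain ⟨β, hβ, hβ1, hβ2⟩ := exists_fibre_chart (F := h) hb hc e₂ j
  let fz : pullback (f ≫ h) ((yon S).map j ≫ c) ⟶ pullback h ((yon S).map j ≫ c) :=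
    pullback.lift (pullback.fst _ _ ≫ f) (pullback.snd _ _) (by rw [Category.assoc]; exact pullback.condition)
  have hfz : LocP @Flat fz := hfib (W.left.residueField s) T.hom ((yon S).map j ≫ c) _ _ _ _ _ _ fz
    (IsPullback.of_hasPullback (f ≫ h) ((yon S).map j ≫ c)) (IsPullback.of_hasPullback h ((yon S).map j ≫ c))
    (pullback.lift_fst _ _ _) (pullback.lift_snd _ _ _)
  let k' : pullback (k ≫ r) j ⟶ pullback r j :=
    pullback.lift (pullback.fst _ _ ≫ k) (pullback.snd _ _) (by rw [Category.assoc]; exact pullback.condition)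
  have hk' : Flat k'.left := hfz α β k' hα hβ (by
    apply pullback.hom_ext
    · rw [Category.assoc, Category.assoc, pullback.lift_fst, reassoc_of% hα1, e₁, hβ1]
      simp only [k', ← Functor.map_comp_assoc, pullback.lift_fst]
    · rw [Category.assoc, Category.assoc, pullback.lift_snd, hα2, hβ2, ← Functor.map_comp, pullback.lift_snd])
  have hX : IsPullback (pullback.fst (k ≫ r) j).left (pullback.snd (k ≫ r) j).left (k.left ≫ r.left)
      (W.left.fromSpecResidueField s) := (IsPullback.of_hasPullback (k ≫ r) j).map (Over.forget S)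
  have hY : IsPullback (pullback.fst r j).left (pullback.snd r j).left r.left
      (W.left.fromSpecResidueField s) := (IsPullback.of_hasPullback r j).map (Over.forget S)
  have hcomm : MoreMor.fiberMap k.left r.left s = hX.isoPullback.inv ≫ k'.left ≫ hY.isoPullback.hom := by
    rw [Iso.eq_inv_comp]
    apply pullback.hom_ext
    · simp only [MoreMor.fiberMap, Category.assoc, IsPullback.isoPullback_hom_fst]
      erw [pullback.lift_fst]
      simp [k', Scheme.Hom.fiberι, ← Over.comp_left]
    · simp only [MoreMor.fiberMap, Category.assoc, IsPullback.isoPullback_hom_snd]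
      erw [pullback.lift_snd]
      simp [k', Scheme.Hom.fiberToSpecResidueField, ← Over.comp_left]
  rw [hcomm]
  infer_instance

/-- The fibrewise criterion of flatness, given a criterion for the charts. -/
theorem flat_of_flat_fibres {Q : ∀ {U V W : Scheme.{u}}, (U ⟶ V) → (V ⟶ W) → Prop} (hcrit : Crit Q)
    (hX : IsAlgSpace X) (hY : IsAlgSpace Y) (hZ : IsAlgSpace Z)
    (hQ : ∀ {U V W : Over S} (a : (yon S).obj U ⟶ X) (b : (yon S).obj V ⟶ Y) (c : (yon S).obj W ⟶ Z)
      (k : U ⟶ V) (r : V ⟶ W), RepWith @Etale a → RepWith @Etale b → RepWith @Etale c →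
      a ≫ f = (yon S).map k ≫ b → b ≫ h = (yon S).map r ≫ c → Q k.left r.left)
    (hfl : LocP @Flat (f ≫ h))
    (hfib : ∀ (K : Type u) [Field K] (sK : Spec (CommRingCat.of K) ⟶ S)
      (z : (yon S).obj (Over.mk sK) ⟶ Z) (Xz Yz : Sp S)
      (pX : Xz ⟶ X) (qX : Xz ⟶ (yon S).obj (Over.mk sK))
      (pY : Yz ⟶ Y) (qY : Yz ⟶ (yon S).obj (Over.mk sK)) (fz : Xz ⟶ Yz),
      IsPullback pX qX (f ≫ h) z → IsPullback pY qY h z → fz ≫ pY = pX ≫ f → fz ≫ qY = qX →
      LocP @Flat fz) :
    LocP @Flat f ∧ (IsSurjectiveMor f → LocP @Flat h) := by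
  have key : ∀ {U V W : Over S} {a : (yon S).obj U ⟶ X} {b : (yon S).obj V ⟶ Y} {c : (yon S).obj W ⟶ Z}
      {k : U ⟶ V} {r : V ⟶ W}, RepWith @Etale a → RepWith @Etale b → RepWith @Etale c →
      a ≫ f = (yon S).map k ≫ b → b ≫ h = (yon S).map r ≫ c →
      ∀ u, (r.left.stalkMap (k.left u)).hom.Flat ∧ (k.left.stalkMap u).hom.Flat := by
    intro U V W a b c k r ha hb hc e₁ e₂
    refine hcrit k.left r.left (hQ a b c k r ha hb hc e₁ e₂) ?_
      (flat_fiberMap_of_chart hfib ha hb hc e₁ e₂)
    exact hfl a c (k ≫ r) ha hc (by rw [← Category.assoc, e₁, Category.assoc, e₂, Functor.map_comp, Category.assoc])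
  constructor
  · intro U V a b k ha hb e
    obtain ⟨W, c, hce, hcs⟩ := hZ.atlas
    obtain ⟨V₁, v, r, hve, hvs, hr, -⟩ := exists_etale_cover hce hcs (b ≫ h)
    have hU : IsPullback (pullback.fst k v).left (pullback.snd k v).left k.left v.left :=
      (IsPullback.of_hasPullback k v).map (Over.forget S)
    have hu : Etale (pullback.fst k v).left := MorphismProperty.of_isPullback (P := @Etale) hU.flip hve
    refine IsEtLocal.of_precomp (pullback.fst k v).left k.left hu
      (MorphismProperty.of_isPullback (P := @Surjective) hU.flip hvs) ?_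
    haveI : Flat (pullback.snd k v).left := Flat.of_stalkMap _ fun x =>
      (key (repWith_comp (repWith_yon_map hu) ha) (repWith_comp (repWith_yon_map hve) hb) hce
        (by rw [Category.assoc, e, ← Functor.map_comp_assoc, pullback.condition, Functor.map_comp, Category.assoc])
        (by rw [Category.assoc, hr]) x).2
    haveI : Etale v.left := hve
    show Flat ((pullback.fst k v).left ≫ k.left)
    rw [hU.w]
    infer_instance
  · intro hs V W b c r hb hc e
    refine Flat.of_stalkMap _ fun v => ?_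
    have hP : IsAlgSpace (pullback f b) := isAlgSpace_pullback hY.diag hX (IsAlgSpace.yon_obj V) f b
    obtain ⟨U, p, hpe, hps⟩ := hP.atlas
    obtain ⟨k, hk⟩ := (yon S).map_surjective (p ≫ pullback.snd f b)
    obtain ⟨x, hx⟩ := hs (Points.map b (Points.schemeHomeo V v))
    obtain ⟨q, -, hq⟩ := points_exists_of_isPullback (IsPullback.of_hasPullback f b) x
      (Points.schemeHomeo V v) hx
    obtain ⟨u, rfl⟩ := surjective_ofPt hps q
    have hu : k.left u = v := by
      apply (Points.schemeHomeo V).injective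
      rw [← hq, ← Points.map_yon_map_apply, hk, ofPt_comp_eq_map]
      exact Points.map_comp _ _ _
    have ha : RepWith @Etale (p ≫ pullback.fst f b) :=
      repWith_comp hpe (repWith_of_isPullback (IsPullback.of_hasPullback f b).flip hb)
    rw [← hu]
    exact (key ha hb hc (by rw [Category.assoc, pullback.condition, ← Category.assoc, hk]) e u).1

end Groth.Agent.FibreFlatSp
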