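import Groth.Agent.FibreFlatSp.Deform
import Groth.Agent.FlatLocus.PointScheme
import Groth.Agent.FlatLocus.SmoothFibres
import Groth.Agent.ASp.ThickProper
import Groth.Agent.ASp.ThickFinType
import Groth.Agent.ASp.ThickBasePow
import Groth.Agent.ASp.ThickTop

/-!
Properties of deformations of morphisms of algebraic spaces.
-/

set_option autoImplicit false
set_option backward.isDefEq.respectTransparency false
set_option backward.isDefEq.respectTransparency.types false

universe u

open CategoryTheory CategoryTheory.Limits AlgebraicGeometry Opposite TensorProduct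

namespace Groth.Agent.FibreFlatSp

open _root_.AlgSp Groth.Agent.ASp Groth.Agent.Inf

variable {S : Scheme.{u}} {X Y Z X₀ Y₀ Z₀ : Sp S} {f : X ⟶ Y} {h : Y ⟶ Z}

variable {iX : X₀ ⟶ X} {iY : Y₀ ⟶ Y} {iZ : Z₀ ⟶ Z} {f₀ : X₀ ⟶ Y₀} {g₀ : Y₀ ⟶ Z₀}

/-- Base changes along maps factoring through the closed part are base changes of the reduced morphism. -/
theorem locP_baseChange {P : MorphismProperty Scheme.{u}} [IsEtLocal P] (hcX : IsPullback iX (f₀ ≫ g₀) (f ≫ h) iZ) (hcY : IsPullback iY g₀ h iZ)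
    (w : iX ≫ f = f₀ ≫ iY) (hX₀ : IsAlgSpace X₀) (hY₀ : IsAlgSpace Y₀) (hY : IsAlgSpace Y)
    (hZ : IsAlgSpace Z) (hf₀ : LocP P f₀) {T : Over S} {z : (yon S).obj T ⟶ Z}
    (σ : (yon S).obj T ⟶ Z₀) (hσ : σ ≫ iZ = z) {Xz Yz : Sp S} {pX : Xz ⟶ X} {qX : Xz ⟶ (yon S).obj T}
    {pY : Yz ⟶ Y} {qY : Yz ⟶ (yon S).obj T} {fz : Xz ⟶ Yz} (sX : IsPullback pX qX (f ≫ h) z)
    (sY : IsPullback pY qY h z) (e₁ : fz ≫ pY = pX ≫ f) (e₂ : fz ≫ qY = qX) : LocP P fz := by
  subst hσ
  obtain ⟨ρX, hρX1, hρX2⟩ : ∃ l : Xz ⟶ X₀, l ≫ iX = pX ∧ l ≫ f₀ ≫ g₀ = qX ≫ σ :=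
    ⟨hcX.lift pX (qX ≫ σ) (by rw [sX.w, Category.assoc]), hcX.lift_fst _ _ _, hcX.lift_snd _ _ _⟩
  obtain ⟨ρY, hρY1, hρY2⟩ : ∃ l : Yz ⟶ Y₀, l ≫ iY = pY ∧ l ≫ g₀ = qY ≫ σ :=
    ⟨hcY.lift pY (qY ≫ σ) (by rw [sY.w, Category.assoc]), hcY.lift_fst _ _ _, hcY.lift_snd _ _ _⟩
  have sX₀ : IsPullback ρX qX (f₀ ≫ g₀) σ := IsPullback.of_right (by rw [hρX1]; exact sX) hρX2 hcX
  have sY₀ : IsPullback ρY qY g₀ σ := IsPullback.of_right (by rw [hρY1]; exact sY) hρY2 hcY
  have hsq : IsPullback ρX fz f₀ ρY := IsPullback.of_bot (by rw [e₂]; exact sX₀) (by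
    apply hcY.hom_ext
    · rw [Category.assoc, ← w, reassoc_of% hρX1, Category.assoc, hρY1, e₁]
    · rw [Category.assoc, hρX2, Category.assoc, hρY2, reassoc_of% e₂]) sY₀
  exact locP_of_isPullback hsq.flip hX₀ hY₀
    (isAlgSpace_of_isPullback hZ.diag hY (IsAlgSpace.yon_obj T) sY) hf₀

/-- Properties of finite order deformations from their form on rings. -/
theorem locP_of_finThick {P : MorphismProperty Scheme.{u}}
    {Q : ∀ {R A : Type u} [CommRing R] [CommRing A], (R →+* A) → Prop} [HasRingHomProperty P Q] [IsEtLocal P]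
    (hQ : RingHom.StableUnderCompositionWithLocalizationAwaySource Q)
    (hring : ∀ {R A C : Type u} [CommRing R] [CommRing A] [CommRing C] (φ : R →+* A) (ψ : A →+* C) (I : Ideal R),
      IsNilpotent I → (ψ.comp φ).Flat → Q (Ideal.quotientMap ((I.map φ).map ψ) ψ Ideal.le_comap_map) → Q ψ) (hcX : IsPullback iX (f₀ ≫ g₀) (f ≫ h) iZ) (hcY : IsPullback iY g₀ h iZ)
    (w : iX ≫ f = f₀ ≫ iY) (hX₀ : IsAlgSpace X₀) (hY₀ : IsAlgSpace Y₀) (hY : IsAlgSpace Y)
    (hZ : IsAlgSpace Z) (hi : IsFinThickMor iZ) (hfh : LocP @Flat (f ≫ h)) (hf₀ : LocP P f₀) :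
    LocP P f := by
  obtain ⟨n, hi⟩ := hi
  intro U V a b k ha hb e
  obtain ⟨W₀, c₀, hce, hcs⟩ := hZ.atlas
  obtain ⟨V₁, v, r₀, hve, hvs, hr, -⟩ := exists_etale_cover hce hcs (b ≫ h)
  have hU : IsPullback (pullback.fst k v).left (pullback.snd k v).left k.left v.left :=
    (IsPullback.of_hasPullback k v).map (Over.forget S)
  have hu : Etale (pullback.fst k v).left := MorphismProperty.of_isPullback (P := @Etale) hU.flip hve
  refine IsEtLocal.of_precomp (pullback.fst k v).left k.left hu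
    (MorphismProperty.of_isPullback (P := @Surjective) hU.flip hvs) ?_
  suffices key : P (pullback.snd k v).left by
    show P ((pullback.fst k v).left ≫ k.left)
    rw [hU.w]
    exact P.comp_mem _ _ key (IsEtLocal.etale_le _ hve)
  have ha₁ : RepWith @Etale ((yon S).map (pullback.fst k v) ≫ a) := repWith_comp (repWith_yon_map hu) ha
  have hb₁ : RepWith @Etale ((yon S).map v ≫ b) := repWith_comp (repWith_yon_map hve) hb
  have e₁ : ((yon S).map (pullback.fst k v) ≫ a) ≫ f =
      (yon S).map (pullback.snd k v) ≫ (yon S).map v ≫ b := by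
    rw [Category.assoc, e, ← Functor.map_comp_assoc, pullback.condition, Functor.map_comp, Category.assoc]
  have e₂ : ((yon S).map v ≫ b) ≫ h = (yon S).map r₀ ≫ c₀ := by rw [Category.assoc, hr]
  generalize (yon S).map (pullback.fst k v) ≫ a = a₁ at ha₁ e₁
  generalize (yon S).map v ≫ b = b₁ at hb₁ e₁ e₂
  generalize pullback.snd k v = k₁ at e₁ ⊢
  rw [HasRingHomProperty.iff_exists_appLE (P := P) hQ]
  intro x
  obtain ⟨_, ⟨W₁, hW, rfl⟩, hxW, -⟩ := W₀.left.isBasis_affineOpens.exists_subset_of_mem_open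
    (Set.mem_univ (r₀.left (k₁.left x))) isOpen_univ
  obtain ⟨_, ⟨V₂, hV, rfl⟩, hxV, hVW⟩ := V₁.left.isBasis_affineOpens.exists_subset_of_mem_open
    (show k₁.left x ∈ (r₀.left ⁻¹ᵁ W₁ : V₁.left.Opens) from hxW) (r₀.left ⁻¹ᵁ W₁).isOpen
  obtain ⟨_, ⟨U₂, hU₂, rfl⟩, hxU, hUV⟩ := (pullback k v).left.isBasis_affineOpens.exists_subset_of_mem_open
    (show x ∈ (k₁.left ⁻¹ᵁ V₂ : (pullback k v).left.Opens) from hxV) (k₁.left ⁻¹ᵁ V₂).isOpen
  refine ⟨⟨V₂, hV⟩, ⟨U₂, hU₂⟩, hxU, hUV, ?_⟩
  let Z' : Over S := Over.mk (hW.fromSpec ≫ W₀.hom)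
  haveI : IsAffine Z'.left := inferInstanceAs (IsAffine (Spec _))
  let jW : Z' ⟶ W₀ := Over.homMk hW.fromSpec rfl
  have hjW : Etale jW.left := inferInstanceAs (Etale hW.fromSpec)
  obtain ⟨R, iR, I, str, hI, ε, t₀, ht₀, -⟩ :=
    exists_chart_model_pow hi (q := (yon S).map jW ≫ c₀) (repWith_comp (repWith_yon_map hjW) hce)
  let jT : TT str ⟶ W₀ := ε.hom ≫ jW
  have hεi : IsIso ε.hom.left := inferInstanceAs (IsIso ((Over.forget S).map ε.hom))
  have hjT : Etale jT.left := inferInstanceAs (Etale (ε.hom.left ≫ hW.fromSpec))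
  have hεs : IsIso ε.inv.left := inferInstanceAs (IsIso ((Over.forget S).map ε.inv))
  obtain ⟨φ, hφ⟩ := Spec.map_surjective (Spec.map (r₀.left.appLE W₁ V₂ hVW) ≫ ε.inv.left)
  let ψ := k₁.left.appLE V₂ U₂ hUV
  let jV : TT (strR φ.hom str) ⟶ V₁ := Over.homMk hV.fromSpec (by
    show hV.fromSpec ≫ V₁.hom = Spec.map φ ≫ str
    have h3 : ε.inv.left ≫ str = hW.fromSpec ≫ W₀.hom := Over.w ε.inv
    rw [hφ, Category.assoc, h3, ← Category.assoc, hW.SpecMap_appLE_fromSpec r₀.left hV hVW,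
      Category.assoc, Over.w r₀])
  let jU : TT (strR ψ.hom (strR φ.hom str)) ⟶ pullback k v := Over.homMk hU₂.fromSpec (by
    show hU₂.fromSpec ≫ (pullback k v).hom = Spec.map ψ ≫ Spec.map φ ≫ str
    have h3 : hV.fromSpec ≫ V₁.hom = Spec.map φ ≫ str := Over.w jV
    rw [← h3, ← Category.assoc, hV.SpecMap_appLE_fromSpec k₁.left hU₂ hUV, Category.assoc, Over.w k₁])
  have hk₂ : jU ≫ k₁ = cc ψ.hom (strR φ.hom str) ≫ jV :=
    Over.OverMorphism.ext (hV.SpecMap_appLE_fromSpec k₁.left hU₂ hUV).symm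
  have hr₂ : jV ≫ r₀ = cc φ.hom str ≫ jT := Over.OverMorphism.ext (by
    show hV.fromSpec ≫ r₀.left = Spec.map φ ≫ ε.hom.left ≫ hW.fromSpec
    have h3 : ε.inv.left ≫ ε.hom.left = 𝟙 _ := congrArg CommaMorphism.left ε.inv_hom_id
    rw [hφ, Category.assoc, reassoc_of% h3, hW.SpecMap_appLE_fromSpec r₀.left hV hVW])
  have ha₂ : RepWith @Etale ((yon S).map jU ≫ a₁) :=
    repWith_comp (repWith_yon_map (inferInstanceAs (Etale hU₂.fromSpec))) ha₁
  have hb₂ : RepWith @Etale ((yon S).map jV ≫ b₁) :=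
    repWith_comp (repWith_yon_map (inferInstanceAs (Etale hV.fromSpec))) hb₁
  have hc₂ : RepWith @Etale ((yon S).map jT ≫ c₀) := repWith_comp (repWith_yon_map hjT) hce
  have e₁' : ((yon S).map jU ≫ a₁) ≫ f = (yon S).map (cc ψ.hom (strR φ.hom str)) ≫ (yon S).map jV ≫ b₁ := by
    rw [Category.assoc, e₁, ← Functor.map_comp_assoc, hk₂, Functor.map_comp, Category.assoc]
  have e₂' : ((yon S).map jV ≫ b₁) ≫ h = (yon S).map (cc φ.hom str) ≫ (yon S).map jT ≫ c₀ := by
    rw [Category.assoc, e₂, ← Functor.map_comp_assoc, hr₂, Functor.map_comp, Category.assoc]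
  have e₃ : ((yon S).map jU ≫ a₁) ≫ f ≫ h =
      (yon S).map (cc ψ.hom (strR φ.hom str) ≫ cc φ.hom str) ≫ (yon S).map jT ≫ c₀ := by
    rw [← Category.assoc, e₁', Category.assoc, e₂']
    simp only [Functor.map_comp, Category.assoc]
  have hfl : RingHom.Flat (ψ.hom.comp φ.hom) := by
    have h3 : Flat (Spec.map ψ ≫ Spec.map φ) := hfh _ _ _ ha₂ hc₂ e₃
    rw [← Spec.map_comp] at h3
    exact (HasRingHomProperty.Spec_iff (P := @Flat) (φ := φ ≫ ψ)).1 h3
  have hz : t₀ ≫ iZ = (yon S).map (qI I str) ≫ (yon S).map jT ≫ c₀ := by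
    rw [ht₀]
    simp only [jT, Functor.map_comp, Category.assoc]
  obtain ⟨α, hα, hα1, hα2⟩ := exists_fibre_chart (F := f ≫ h) ha₂ hc₂ e₃ (qI I str)
  obtain ⟨β, hβ, hβ1, hβ2⟩ := exists_fibre_chart (F := h) hb₂ hc₂ e₂' (qI I str)
  let fz : pullback (f ≫ h) ((yon S).map (qI I str) ≫ (yon S).map jT ≫ c₀) ⟶
      pullback h ((yon S).map (qI I str) ≫ (yon S).map jT ≫ c₀) :=
    pullback.lift (pullback.fst _ _ ≫ f) (pullback.snd _ _) (by rw [Category.assoc]; exact pullback.condition)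
  have hfz : LocP P fz := locP_baseChange (P := P) hcX hcY w hX₀ hY₀ hY hZ hf₀ t₀ hz
    (IsPullback.of_hasPullback _ _) (IsPullback.of_hasPullback _ _) (pullback.lift_fst _ _ _) (pullback.lift_snd _ _ _)
  have sA : IsPullback (qI (I.map φ.hom) (strR φ.hom str)) (cc0 φ.hom I str) (cc φ.hom str) (qI I str) :=
    IsPullback.of_map (Over.forget S) (cc0_qI φ.hom I str).symm (isPullback_cc0 φ.hom I str)
  have sC₀ : IsPullback (qI ((I.map φ.hom).map ψ.hom) (strR ψ.hom (strR φ.hom str)))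
      (cc0 ψ.hom (I.map φ.hom) (strR φ.hom str)) (cc ψ.hom (strR φ.hom str)) (qI (I.map φ.hom) (strR φ.hom str)) :=
    IsPullback.of_map (Over.forget S) (cc0_qI ψ.hom (I.map φ.hom) (strR φ.hom str)).symm
      (isPullback_cc0 ψ.hom (I.map φ.hom) (strR φ.hom str))
  have sC := sC₀.paste_vert sA
  let kI := cc0 ψ.hom (I.map φ.hom) (strR φ.hom str)
  have hsq : ((yon S).map sC.isoPullback.hom ≫ α) ≫ fz = (yon S).map kI ≫ (yon S).map sA.isoPullback.hom ≫ β := by
    apply pullback.hom_ext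
    · simp only [fz, Category.assoc, pullback.lift_fst]
      rw [reassoc_of% hα1, show (yon S).map jU ≫ a₁ ≫ f = _ from (Category.assoc _ _ _).symm.trans e₁', hβ1]
      simp only [← Functor.map_comp_assoc, IsPullback.isoPullback_hom_fst_assoc, IsPullback.isoPullback_hom_fst]
      rw [sC₀.w_assoc]
    · simp only [fz, Category.assoc, pullback.lift_snd]
      rw [hα2, hβ2]
      simp only [← Functor.map_comp, IsPullback.isoPullback_hom_snd, kI]
  have hiso : ∀ {P Q : Over S} (i : P ≅ Q), RepWith @Etale ((yon S).map i.hom) := fun i => repWith_of_isIso _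
  have hkI : P kI.left := hfz _ _ kI (repWith_comp (hiso _) hα) (repWith_comp (hiso _) hβ) hsq
  exact hring φ.hom ψ.hom I ⟨n + 1, hI⟩ hfl ((HasRingHomProperty.Spec_iff (P := P)).1 hkI)

/-- Finite presentation modulo a nilpotent ideal of the base gives finite presentation for flat algebras. -/
theorem finitePresentation_of_quotient {R A C : Type u} [CommRing R] [CommRing A] [CommRing C]
    (φ : R →+* A) (ψ : A →+* C) (I : Ideal R) (hI : IsNilpotent I) (hfl : (ψ.comp φ).Flat)
    (h : (Ideal.quotientMap ((I.map φ).map ψ) ψ Ideal.le_comap_map).FinitePresentation) :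
    ψ.FinitePresentation := by
  classical
  have hnil : IsNilpotent ((I.map φ).map ψ) := by
    obtain ⟨m, hm⟩ := hI
    exact ⟨m, by rw [← Ideal.map_pow, ← Ideal.map_pow, hm, Ideal.zero_eq_bot, Ideal.map_bot, Ideal.map_bot,
      Ideal.zero_eq_bot]⟩
  have hft : ψ.FiniteType := by
    refine finiteType_of_nilpotent ψ hnil ?_
    rw [show (Ideal.Quotient.mk ((I.map φ).map ψ)).comp ψ =
      (Ideal.quotientMap ((I.map φ).map ψ) ψ Ideal.le_comap_map).comp (Ideal.Quotient.mk (I.map φ)) from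
        RingHom.ext fun _ => rfl]
    exact (RingHom.FiniteType.comp (RingHom.FiniteType.of_finitePresentation h)
      (RingHom.FiniteType.of_surjective _ Ideal.Quotient.mk_surjective))
  obtain ⟨m, p, hp⟩ : ∃ (m : ℕ) (p : MvPolynomial (Fin m) A →+* C),
      Function.Surjective p ∧ p.comp MvPolynomial.C = ψ := by
    algebraize [ψ]
    obtain ⟨m, g, hg⟩ := Algebra.FiniteType.iff_quotient_mvPolynomial''.1 hft
    exact ⟨m, g.toRingHom, hg, RingHom.ext fun a => g.commutes a⟩
  obtain ⟨hp, hpψ⟩ := hp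
  let K := RingHom.ker p
  let J : Ideal (MvPolynomial (Fin m) A) := I.map ((MvPolynomial.C : A →+* MvPolynomial (Fin m) A).comp φ)
  let J' : Ideal C := (I.map φ).map ψ
  have hJ' : J.map p = J' := by
    rw [Ideal.map_map, ← RingHom.comp_assoc, hpψ, ← Ideal.map_map]
  -- relations lift along flatness
  have hle : K ⊓ J ≤ J * K := by
    rintro x ⟨hxK, hxJ⟩
    letI : Algebra R C := (ψ.comp φ).toAlgebra
    haveI : Module.Flat R C := hfl
    have hxJ' : x ∈ Ideal.span ((MvPolynomial.C.comp φ) '' (I : Set R)) := hxJ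
    obtain ⟨t, hts, hlx⟩ := (Finsupp.mem_span_image_iff_linearCombination _).1 hxJ'
    rw [Finsupp.linearCombination_apply, Finsupp.sum] at hlx
    have hzero : ∑ r : t.support, (r.1 : R) • p (t r.1) = 0 := by
      rw [Finset.sum_coe_sort t.support (fun r => (r : R) • p (t r))]
      calc ∑ r ∈ t.support, (r : R) • p (t r)
          = p x := by
            rw [← hlx, map_sum]
            refine Finset.sum_congr rfl fun r _ => ?_
            rw [smul_eq_mul, map_mul, Algebra.smul_def, mul_comm]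
            exact congrArg (p (t r) * ·) (RingHom.congr_fun hpψ (φ r)).symm
        _ = 0 := hxK
    obtain ⟨n, a, y, hy, hay⟩ := Module.Flat.isTrivialRelation_of_sum_smul_eq_zero
      (R := R) (M := C) (f := fun r : t.support => (r : R)) (x := fun r => p (t r.1)) hzero
    choose q hq using fun j => hp (y j)
    have hk : ∀ r : t.support, t r.1 - ∑ j, MvPolynomial.C (φ (a r j)) * q j ∈ K := fun r => by
      rw [RingHom.mem_ker, map_sub, map_sum, show p (t r.1) = _ from hy r, sub_eq_zero]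
      refine Finset.sum_congr rfl fun j _ => ?_
      rw [map_mul, hq, Algebra.smul_def]
      exact congrArg (· * y j) (RingHom.congr_fun hpψ (φ (a r j))).symm
    have hx : x = ∑ r : t.support, MvPolynomial.C (φ r.1) * (t r.1 - ∑ j, MvPolynomial.C (φ (a r j)) * q j) := by
      simp only [mul_sub, Finset.sum_sub_distrib, Finset.mul_sum]
      rw [Finset.sum_comm, Finset.sum_eq_zero (s := (Finset.univ : Finset (Fin n))) (fun j _ => ?_), sub_zero,
        Finset.sum_coe_sort t.support (fun r => MvPolynomial.C (φ r) * t r), ← hlx]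
      · exact Finset.sum_congr rfl fun r _ => by rw [smul_eq_mul, mul_comm]; rfl
      · simp only [← mul_assoc, ← map_mul, ← Finset.sum_mul, ← map_sum, hay j, map_zero, zero_mul]
    rw [hx]
    exact Ideal.sum_mem _ fun r _ => Ideal.mul_mem_mul (Ideal.mem_map_of_mem _ (hts r.2)) (hk r)
  -- generators modulo the ideal
  obtain ⟨K₀, hK₀fg, hK₀, hKJ⟩ : ∃ K₀ : Ideal (MvPolynomial (Fin m) A), K₀.FG ∧ K₀ ≤ K ∧ K ≤ K₀ ⊔ J := by
    let A₀ := A ⧸ I.map φ
    letI : Algebra A₀ (C ⧸ J') := (Ideal.quotientMap J' ψ Ideal.le_comap_map).toAlgebra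
    haveI : Algebra.FinitePresentation A₀ (C ⧸ J') := h
    let g : MvPolynomial (Fin m) A₀ →ₐ[A₀] C ⧸ J' :=
      MvPolynomial.aeval fun i => Ideal.Quotient.mk J' (p (MvPolynomial.X i))
    let π : MvPolynomial (Fin m) A →+* MvPolynomial (Fin m) A₀ := MvPolynomial.map (Ideal.Quotient.mk _)
    have hπ : Function.Surjective π := MvPolynomial.map_surjective _ Ideal.Quotient.mk_surjective
    have hgπ : g.toRingHom.comp π = (Ideal.Quotient.mk J').comp p := by
      refine MvPolynomial.ringHom_ext (fun c => ?_) fun i => ?_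
      · show g (π (MvPolynomial.C c)) = Ideal.Quotient.mk J' (p (MvPolynomial.C c))
        rw [MvPolynomial.map_C, MvPolynomial.aeval_C]
        exact congrArg (Ideal.Quotient.mk J') (RingHom.congr_fun hpψ c).symm
      · show g (π (MvPolynomial.X i)) = Ideal.Quotient.mk J' (p (MvPolynomial.X i))
        rw [MvPolynomial.map_X, MvPolynomial.aeval_X]
    have hg : Function.Surjective g := fun c => by
      obtain ⟨c, rfl⟩ := Ideal.Quotient.mk_surjective c
      obtain ⟨x, rfl⟩ := hp c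
      exact ⟨π x, RingHom.congr_fun hgπ x⟩
    obtain ⟨G, hG⟩ := Algebra.FinitePresentation.ker_fG_of_surjective g hg
    have hex : ∀ z : MvPolynomial (Fin m) A₀, z ∈ RingHom.ker g.toRingHom → ∃ x, x ∈ K ∧ π x = z := by
      intro z hz
      obtain ⟨w, rfl⟩ := hπ z
      have hw : p w ∈ J.map p := by
        rw [hJ', ← Ideal.Quotient.eq_zero_iff_mem]
        exact (RingHom.congr_fun hgπ w).symm.trans hz
      obtain ⟨c, hc, hcw⟩ := (Ideal.mem_map_iff_of_surjective p hp).1 hw
      refine ⟨w - c, by rw [RingHom.mem_ker, map_sub, hcw, sub_self], ?_⟩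
      rw [map_sub, sub_eq_self, ← RingHom.mem_ker, MvPolynomial.ker_map, Ideal.mk_ker, Ideal.map_map]
      exact hc
    have hGk : ∀ z ∈ G, z ∈ RingHom.ker g.toRingHom := fun z hz => by
      have h1 : z ∈ Ideal.span (G : Set (MvPolynomial (Fin m) A₀)) := Ideal.subset_span hz
      rw [show Ideal.span (G : Set (MvPolynomial (Fin m) A₀)) = _ from hG] at h1
      exact h1
    choose lift hlift hlift' using hex
    let L : Finset (MvPolynomial (Fin m) A) := G.attach.image fun z => lift z.1 (hGk z.1 z.2)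
    refine ⟨Ideal.span L, ⟨L, rfl⟩, Ideal.span_le.2 ?_, fun x hx => ?_⟩
    · intro x hx
      obtain ⟨z, -, rfl⟩ := Finset.mem_image.1 (Finset.mem_coe.1 hx)
      exact hlift _ _
    · have hx' : π x ∈ (Ideal.span (L : Set (MvPolynomial (Fin m) A))).map π := by
        have h1 : π x ∈ RingHom.ker g.toRingHom := by
          rw [RingHom.mem_ker]
          refine (RingHom.congr_fun hgπ x).trans ?_
          rw [RingHom.comp_apply, RingHom.mem_ker.1 hx, map_zero]
        rw [← show Ideal.span (G : Set (MvPolynomial (Fin m) A₀)) = _ from hG] at h1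
        refine (Ideal.span_le.2 ?_ : Ideal.span (G : Set (MvPolynomial (Fin m) A₀)) ≤ _) h1
        intro z hz
        rw [← hlift' z (hGk z hz)]
        exact Ideal.mem_map_of_mem _ (Ideal.subset_span (Finset.mem_coe.2
          (Finset.mem_image.2 ⟨⟨z, hz⟩, Finset.mem_attach _ _, rfl⟩)))
      obtain ⟨c, hc, hcx⟩ := (Ideal.mem_map_iff_of_surjective π hπ).1 hx'
      rw [← add_sub_cancel c x]
      refine add_mem (Ideal.mem_sup_left hc) (Ideal.mem_sup_right ?_)
      show x - c ∈ J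
      have : x - c ∈ RingHom.ker π := by rw [RingHom.mem_ker, map_sub, hcx, sub_self]
      rw [MvPolynomial.ker_map, Ideal.mk_ker, Ideal.map_map] at this
      exact this
  have hstep : K ≤ K₀ ⊔ J * K := fun x hx => by
    obtain ⟨c, hc, d, hd, rfl⟩ := Submodule.mem_sup.1 (hKJ hx)
    exact add_mem (Ideal.mem_sup_left hc)
      (Ideal.mem_sup_right (hle ⟨(Ideal.add_mem_iff_right _ (hK₀ hc)).1 hx, hd⟩))
  have hpow : ∀ k : ℕ, K ≤ K₀ ⊔ J ^ k * K := by
    intro k
    induction k with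
    | zero => simp
    | succ k ih =>
      refine ih.trans (sup_le le_sup_left ((Ideal.mul_mono_right hstep).trans ?_))
      rw [Ideal.mul_sup, ← mul_assoc, ← pow_succ]
      exact sup_le_sup Ideal.mul_le_right le_rfl
  obtain ⟨k, hk⟩ := hI
  have hK : K = K₀ := by
    refine le_antisymm ((hpow k).trans ?_) hK₀
    rw [← Ideal.map_pow, hk, Ideal.zero_eq_bot, Ideal.map_bot, Ideal.bot_mul, sup_bot_eq]
  rw [← hpψ]
  refine (RingHom.FinitePresentation.comp_surjective ?_ hp (by rw [show RingHom.ker p = K₀ from hK]; exact hK₀fg))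
  exact RingHom.finitePresentation_algebraMap.mpr inferInstance

/-- Finite presentation of a finite order deformation. -/
theorem locP_lfp_of_finThick (hcX : IsPullback iX (f₀ ≫ g₀) (f ≫ h) iZ) (hcY : IsPullback iY g₀ h iZ)
    (w : iX ≫ f = f₀ ≫ iY) (hX₀ : IsAlgSpace X₀) (hY₀ : IsAlgSpace Y₀) (hY : IsAlgSpace Y)
    (hZ : IsAlgSpace Z) (hi : IsFinThickMor iZ) (hfh : LocP @Flat (f ≫ h))
    (hf₀ : LocP @LocallyOfFinitePresentation f₀) : LocP @LocallyOfFinitePresentation f :=
  locP_of_finThick (P := @LocallyOfFinitePresentation)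
    (RingHom.finitePresentation_stableUnderComposition.stableUnderCompositionWithLocalizationAway
      RingHom.finitePresentation_holdsForLocalizationAway).left
    (fun φ ψ I hI hfl hQ => finitePresentation_of_quotient φ ψ I hI hfl hQ)
    hcX hcY w hX₀ hY₀ hY hZ hi hfh hf₀

section
variable {i : X₀ ⟶ X} {j : Y₀ ⟶ Y}

/-- Fibres do not see thickenings. -/
theorem fiberToSpec_of_thick {U U' V V' : Scheme.{u}} {ιU : U ⟶ U'} {k : U ⟶ V} {k' : U' ⟶ V'} {ιV : V ⟶ V'}
    [IsClosedImmersion ιV] [Surjective ιV] (sq : IsPullback ιU k k' ιV) (P : MorphismProperty Scheme.{u})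
    [P.IsStableUnderBaseChange] [P.RespectsIso] (hk : P k) (y : ↥V') : P (k'.fiberToSpecResidueField y) := by
  haveI : IsClosedImmersion (pullback.snd ιV (V'.fromSpecResidueField y)) :=
    MorphismProperty.pullback_snd _ _ ‹_›
  haveI : Surjective (pullback.snd ιV (V'.fromSpecResidueField y)) := MorphismProperty.pullback_snd _ _ ‹_›
  haveI : IsIso (pullback.snd ιV (V'.fromSpecResidueField y)) := isIso_of_isClosedImmersion_of_surjective _
  let σ := inv (pullback.snd ιV (V'.fromSpecResidueField y)) ≫ pullback.fst ιV (V'.fromSpecResidueField y)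
  have hσ : σ ≫ ιV = V'.fromSpecResidueField y := by
    simp only [σ, Category.assoc, pullback.condition, IsIso.inv_hom_id_assoc]
  have h1 := (IsPullback.of_hasPullback k σ).paste_horiz sq
  rw [hσ] at h1
  have h2 : P (pullback.snd k σ) := MorphismProperty.pullback_snd _ _ hk
  rw [← h1.isoPullback_hom_snd] at h2
  exact (P.cancel_left_of_respectsIso _ _).mp h2

/-- Smoothness of a flat finitely presented morphism does not see cartesian thickenings. -/
theorem locP_smooth_of_thick (hi : IsThickMor i) (hj : IsThickMor j) (hc : IsPullback i f₀ f j)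
    (hfl : LocP @Flat f) (hfp : LocP @LocallyOfFinitePresentation f) (h₀ : LocP @Smooth f₀) :
    LocP @Smooth f := by
  intro U' V' a' b' k' ha' hb' e'
  obtain ⟨U, V, a, b, k, ιU, ιV, ha, hb, e, hthU, hthV, sqs⟩ := exists_chart_cartesian hi hj hc ha' hb' e'
  haveI : IsClosedImmersion ιV.left := hthV.1
  haveI : Surjective ιV.left := hthV.2
  haveI : Flat k'.left := hfl a' b' k' ha' hb' e'
  haveI : LocallyOfFinitePresentation k'.left := hfp a' b' k' ha' hb' e'
  exact Smooth.of_smooth_fiberToSpecResidueField k'.left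
    (fiberToSpec_of_thick sqs @Smooth (h₀ a b k ha hb e))

/-- Being unramified does not see cartesian thickenings of morphisms locally of finite type. -/
theorem locP_unramified_of_thick (hi : IsThickMor i) (hj : IsThickMor j) (hc : IsPullback i f₀ f j)
    (hft : LocP @LocallyOfFiniteType f) (h₀ : LocP (@LocallyOfFiniteType ⊓ @FormallyUnramified) f₀) :
    LocP (@LocallyOfFiniteType ⊓ @FormallyUnramified) f := by
  intro U' V' a' b' k' ha' hb' e'
  obtain ⟨U, V, a, b, k, ιU, ιV, ha, hb, e, hthU, hthV, sqs⟩ := exists_chart_cartesian hi hj hc ha' hb' e'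
  haveI : IsClosedImmersion ιV.left := hthV.1
  haveI : Surjective ιV.left := hthV.2
  haveI : LocallyOfFiniteType k'.left := hft a' b' k' ha' hb' e'
  exact ⟨inferInstance, FlatLocus.formallyUnramified_of_fibres k'.left
    (fiberToSpec_of_thick sqs @FormallyUnramified (h₀ a b k ha hb e).2)⟩

/-- Etaleness of a flat finitely presented morphism does not see cartesian thickenings. -/
theorem locP_etale_of_thick (hi : IsThickMor i) (hj : IsThickMor j) (hc : IsPullback i f₀ f j)
    (hfl : LocP @Flat f) (hfp : LocP @LocallyOfFinitePresentation f) (h₀ : LocP @Etale f₀) :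
    LocP @Etale f := by
  intro U' V' a' b' k' ha' hb' e'
  obtain ⟨U, V, a, b, k, ιU, ιV, ha, hb, e, hthU, hthV, sqs⟩ := exists_chart_cartesian hi hj hc ha' hb' e'
  haveI : IsClosedImmersion ιV.left := hthV.1
  haveI : Surjective ιV.left := hthV.2
  haveI : Flat k'.left := hfl a' b' k' ha' hb' e'
  haveI : LocallyOfFinitePresentation k'.left := hfp a' b' k' ha' hb' e'
  haveI : Etale k.left := h₀ a b k ha hb e
  haveI : FormallyUnramified k'.left := FlatLocus.formallyUnramified_of_fibres k'.left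
    (fiberToSpec_of_thick sqs @FormallyUnramified inferInstance)
  exact Etale.of_formallyUnramified_of_flat k'.left

end

end Groth.Agent.FibreFlatSp
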