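import Groth.Agent.FlatLocus.Fibrewise
import Mathlib.Algebra.Module.CharacterModule

/-!
Flatness modulo a nilpotent ideal.
-/

set_option autoImplicit false
set_option linter.style.haveILetI false
set_option backward.isDefEq.respectTransparency false
set_option backward.defeqAttrib.useBackward true

universe u

open TensorProduct

namespace Groth.Agent.FibreFlatSp

variable {A : Type u} [CommRing A] {M : Type u} [AddCommGroup M] [Module A M]

/-- Maps to the character module extend from submodules of modules killed by the ideal. -/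
theorem exists_extend_of_flat_quotient (I : Ideal A) [Module.Flat (A ⧸ I) ((A ⧸ I) ⊗[A] M)] {Q : Type u}
    [AddCommGroup Q] [Module A Q] [Module (A ⧸ I) Q] [IsScalarTower A (A ⧸ I) Q] (L : Submodule A Q)
    (g : L →ₗ[A] CharacterModule M) : ∃ g' : Q →ₗ[A] CharacterModule M, g' ∘ₗ L.subtype = g := by
  let L' : Submodule (A ⧸ I) Q :=
    { L.toAddSubmonoid with
      smul_mem' := fun r x hx => by
        obtain ⟨r, rfl⟩ := Ideal.Quotient.mk_surjective r
        show (algebraMap A (A ⧸ I) r) • x ∈ L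
        rw [algebraMap_smul]
        exact L.smul_mem r hx }
  have h := CAlgBasics.rTensor_injective_of_flat_baseChange (R := A) (A ⧸ I) M L'.subtype L'.subtype_injective
  let g₀ : L' →ₗ[A] CharacterModule M :=
    { toFun := fun x => g ⟨x.1, x.2⟩
      map_add' := fun x y => g.map_add ⟨x.1, x.2⟩ ⟨y.1, y.2⟩
      map_smul' := fun r x => g.map_smul r ⟨x.1, x.2⟩ }
  obtain ⟨g', hg'⟩ := rTensor_injective_iff_lcomp_surjective.mp h g₀
  exact ⟨g', LinearMap.ext fun x => LinearMap.congr_fun hg' ⟨x.1, x.2⟩⟩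

/-- Linear maps descend along surjections. -/
theorem exists_descend {N P C : Type u} [AddCommGroup N] [Module A N] [AddCommGroup P] [Module A P]
    [AddCommGroup C] [Module A C] (p : N →ₗ[A] P) (hp : Function.Surjective p) (g : N →ₗ[A] C)
    (h : LinearMap.ker p ≤ LinearMap.ker g) : ∃ g' : P →ₗ[A] C, ∀ x, g' (p x) = g x := by
  refine ⟨(LinearMap.ker p).liftQ g h ∘ₗ (p.quotKerEquivOfSurjective hp).symm.toLinearMap, fun x => ?_⟩
  show (LinearMap.ker p).liftQ g h ((p.quotKerEquivOfSurjective hp).symm (p x)) = _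
  rw [show (p.quotKerEquivOfSurjective hp).symm (p x) = Submodule.Quotient.mk x from
    (LinearEquiv.symm_apply_eq _).mpr rfl]
  rfl

/-- Maps to the character module extend across a quotient killed by the ideal. -/
theorem exists_extend_of_smul_top_le (I : Ideal A) [Module.Flat (A ⧸ I) ((A ⧸ I) ⊗[A] M)]
    (hI : Function.Injective (I.subtype.rTensor M)) {P : Type u} [AddCommGroup P] [Module A P]
    (J' : Submodule A P) (hJ' : I • (⊤ : Submodule A P) ≤ J') (φ : J' →ₗ[A] CharacterModule M) :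
    ∃ ψ : P →ₗ[A] CharacterModule M, ψ ∘ₗ J'.subtype = φ := by
  classical
  have hmem : ∀ (a : I) (y : P), a.1 • y ∈ J' := fun a y =>
    hJ' (Submodule.smul_mem_smul a.2 Submodule.mem_top)
  have hext : ∀ y : P, ∃ m : CharacterModule M, ∀ a : I, a.1 • m = φ ⟨a.1 • y, hmem a y⟩ := fun y => by
    let ω : I →ₗ[A] CharacterModule M :=
      φ ∘ₗ LinearMap.codRestrict J' ((LinearMap.toSpanSingleton A P y) ∘ₗ I.subtype) (fun a => hmem a y)
    obtain ⟨ω', hω'⟩ := rTensor_injective_iff_lcomp_surjective.mp hI ω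
    refine ⟨ω' 1, fun a => ?_⟩
    rw [← map_smul, smul_eq_mul, mul_one]
    exact LinearMap.congr_fun hω' a
  choose m hm using hext
  let π : (P →₀ A) →ₗ[A] P := Finsupp.linearCombination A id
  let ψ₀ : (P →₀ A) →ₗ[A] CharacterModule M := Finsupp.linearCombination A m
  have hψ₀ : ∀ (a : I) (k : P →₀ A), a.1 • ψ₀ k = φ ⟨a.1 • π k, hmem a _⟩ := by
    intro a k
    induction k using Finsupp.induction_linear with
    | zero =>
      rw [map_zero, smul_zero, ← map_zero φ]
      congr 1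
      exact Subtype.ext (by simp)
    | add f g hf hg =>
      rw [map_add, smul_add, hf, hg, ← map_add]
      congr 1
      exact Subtype.ext (by simp [smul_add])
    | single y c =>
      rw [Finsupp.linearCombination_single, smul_comm, hm, ← map_smul]
      congr 1
      exact Subtype.ext (by simp [π, smul_comm c a.1 y])
  let N : Submodule A (P →₀ A) := I • ⊤
  let K : Submodule A (P →₀ A) := J'.comap π
  let δ : K →ₗ[A] CharacterModule M :=
    φ ∘ₗ LinearMap.codRestrict J' (π ∘ₗ K.subtype) (fun k => k.2) - ψ₀ ∘ₗ K.subtype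
  have hN : ∀ k (hk : k ∈ K), k ∈ N → δ ⟨k, hk⟩ = 0 := by
    intro k hk hkN
    suffices h : ∃ hk' : k ∈ K, δ ⟨k, hk'⟩ = 0 by
      obtain ⟨_, h⟩ := h
      exact h
    refine Submodule.smul_induction_on (p := fun k => ∃ hk' : k ∈ K, δ ⟨k, hk'⟩ = 0) hkN ?_ ?_
    · intro a ha z _
      have hz : a • z ∈ K := by
        show π (a • z) ∈ J'
        rw [map_smul]
        exact hmem ⟨a, ha⟩ _
      refine ⟨hz, ?_⟩
      show φ ⟨π (a • z), _⟩ - ψ₀ (a • z) = 0
      rw [map_smul ψ₀, hψ₀ ⟨a, ha⟩ z, sub_eq_zero]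
      congr 1
      exact Subtype.ext (map_smul π a z)
    · rintro z w ⟨hz, hz'⟩ ⟨hw, hw'⟩
      exact ⟨K.add_mem hz hw, by
        rw [show (⟨z + w, K.add_mem hz hw⟩ : K) = ⟨z, hz⟩ + ⟨w, hw⟩ from rfl, map_add, hz', hw', add_zero]⟩
  let Kb : Submodule A ((P →₀ A) ⧸ I • (⊤ : Submodule A (P →₀ A))) := K.map N.mkQ
  let p : K →ₗ[A] Kb :=
    { toFun := fun k => ⟨N.mkQ k.1, ⟨k.1, k.2, rfl⟩⟩
      map_add' := fun k l => Subtype.ext (map_add N.mkQ k.1 l.1)
      map_smul' := fun r k => Subtype.ext (map_smul N.mkQ r k.1) }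
  have hp : Function.Surjective p := by
    rintro ⟨_, k, hk, rfl⟩
    exact ⟨⟨k, hk⟩, rfl⟩
  have hker : LinearMap.ker p ≤ LinearMap.ker δ := fun k hk =>
    hN k.1 k.2 ((Submodule.Quotient.mk_eq_zero N).mp (congrArg Subtype.val hk))
  obtain ⟨δb, hδb⟩ := exists_descend (N := K) (P := Kb) (C := CharacterModule M) p hp δ hker
  obtain ⟨δ', hδ'⟩ := exists_extend_of_flat_quotient I Kb δb
  let ψ₁ : (P →₀ A) →ₗ[A] CharacterModule M := ψ₀ + δ' ∘ₗ N.mkQ
  have hψ₁ : ∀ k (hk : k ∈ K), ψ₁ k = φ ⟨π k, hk⟩ := fun k hk => by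
    have h : δ' (N.mkQ k) = δ ⟨k, hk⟩ :=
      (LinearMap.congr_fun hδ' (p ⟨k, hk⟩)).trans (hδb ⟨k, hk⟩)
    have hδk : δ ⟨k, hk⟩ = φ ⟨π k, hk⟩ - ψ₀ k := rfl
    show ψ₀ k + δ' (N.mkQ k) = φ ⟨π k, hk⟩
    erw [h, hδk, add_sub_cancel]
  have hπ : Function.Surjective π := fun y => ⟨Finsupp.single y 1, by simp [π]⟩
  have hker' : LinearMap.ker π ≤ LinearMap.ker ψ₁ := fun k hk => by
    have hk' : π k = 0 := hk
    rw [LinearMap.mem_ker, hψ₁ k (show π k ∈ J' by rw [hk']; exact zero_mem _), ← map_zero φ]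
    congr 1
    exact Subtype.ext hk'
  obtain ⟨ψ, hψ⟩ := exists_descend (N := P →₀ A) (P := P) (C := CharacterModule M) π hπ ψ₁ hker'
  refine ⟨ψ, LinearMap.ext fun j => ?_⟩
  obtain ⟨k, hk⟩ := hπ j.1
  rw [LinearMap.comp_apply, Submodule.subtype_apply, ← hk, hψ, hψ₁ k (show π k ∈ J' by rw [hk]; exact j.2)]
  congr 1
  exact Subtype.ext hk

/-- A module flat over the base and flat modulo a nilpotent ideal of the base is flat. -/
theorem flat_of_nilpotent {R : Type u} [CommRing R] [Algebra R A] (I : Ideal R) (hI : IsNilpotent I)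
    [Module R M] [IsScalarTower R A M] [Module.Flat R M]
    [Module.Flat (A ⧸ I.map (algebraMap R A)) ((A ⧸ I.map (algebraMap R A)) ⊗[A] M)] :
    Module.Flat A M := by
  set I' := I.map (algebraMap R A)
  have hI' : Function.Injective (I'.subtype.rTensor M) := by
    refine (LinearMap.lTensor_inj_iff_rTensor_inj _ _).mp
      (FlatLocus.lTensor_injective_of_fibre I I' le_rfl (FlatLocus.lTensor_injective_of_flat_quotient I' _))
  obtain ⟨n, hn⟩ := hI
  have hn' : I' ^ n = ⊥ := by rw [← Ideal.map_pow, hn, Ideal.zero_eq_bot, Ideal.map_bot]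
  rw [Module.Flat.iff_rTensor_injective']
  intro J
  rw [rTensor_injective_iff_lcomp_surjective]
  intro φ
  have step : ∀ k, k ≤ n → ∀ (h : J ≤ J ⊔ I' ^ (n - k)),
      ∃ ψ : ↥(J ⊔ I' ^ (n - k)) →ₗ[A] CharacterModule M, ψ ∘ₗ Submodule.inclusion h = φ := by
    intro k
    induction k with
    | zero =>
      intro _ h
      have e : J ⊔ I' ^ (n - 0) ≤ J := by rw [Nat.sub_zero, hn', sup_bot_eq]
      exact ⟨φ ∘ₗ Submodule.inclusion e, LinearMap.ext fun x => rfl⟩
    | succ k ih =>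
      intro hk h
      obtain ⟨ψ, hψ⟩ := ih (by omega) le_sup_left
      have hsub : J ⊔ I' ^ (n - k) ≤ J ⊔ I' ^ (n - (k + 1)) :=
        sup_le_sup_left (Ideal.pow_le_pow_right (by omega)) J
      let J' : Submodule A ↥(J ⊔ I' ^ (n - (k + 1))) := Submodule.comap (Submodule.subtype (J ⊔ I' ^ (n - (k + 1)))) (J ⊔ I' ^ (n - k))
      have hJ' : I' • (⊤ : Submodule A ↥(J ⊔ I' ^ (n - (k + 1)))) ≤ J' := by
        refine Submodule.smul_le.mpr fun a ha x _ => ?_
        obtain ⟨j, hj, i, hi, hji⟩ := Submodule.mem_sup.mp x.2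
        show a • x.1 ∈ J ⊔ I' ^ (n - k)
        rw [← hji, smul_add]
        refine add_mem (Submodule.mem_sup_left (J.smul_mem a hj)) (Submodule.mem_sup_right ?_)
        rw [show n - k = (n - (k + 1)) + 1 by omega, pow_succ']
        exact Ideal.mul_mem_mul ha hi
      obtain ⟨χ, hχ⟩ := exists_extend_of_smul_top_le I' hI' J' hJ'
        (ψ ∘ₗ LinearMap.codRestrict (J ⊔ I' ^ (n - k)) (Submodule.subtype _ ∘ₗ J'.subtype) fun x => x.2)
      refine ⟨χ, LinearMap.ext fun x => ?_⟩
      have := LinearMap.congr_fun hχ ⟨Submodule.inclusion h x, show x.1 ∈ J ⊔ I' ^ (n - k) from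
        Submodule.mem_sup_left x.2⟩
      rw [← hψ]
      exact this
  obtain ⟨ψ, hψ⟩ := step n le_rfl le_sup_left
  have htop : ∀ a : A, a ∈ J ⊔ I' ^ (n - n) := fun a => Submodule.mem_sup_right (by simp)
  exact ⟨ψ ∘ₗ LinearMap.codRestrict _ LinearMap.id htop, LinearMap.ext fun x => LinearMap.congr_fun hψ x⟩

end Groth.Agent.FibreFlatSp
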