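import Groth.Agent.FibreFlatSp.Main
import Groth.Agent.FibreFlatSp.Nilp
import Groth.Agent.ASp.ThickBasePow
import Groth.Agent.ASp.ThickTop

/-!
Flatness of deformations of morphisms of algebraic spaces.
-/

set_option autoImplicit false
set_option backward.isDefEq.respectTransparency false
set_option backward.isDefEq.respectTransparency.types false

universe u

open CategoryTheory CategoryTheory.Limits AlgebraicGeometry Opposite TensorProduct

namespace Groth.Agent.FibreFlatSp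

open _root_.AlgSp Groth.Agent.ASp Groth.Agent.Inf

variable {S : Scheme.{u}} {X Y Z X₀ Y₀ Z₀ : Sp S} {f : X ⟶ Y} {h : Y ⟶ Z}

/-- Flatness at the image of a flat morphism whose composite is flat. -/
theorem isFlatAtMor_of_flat (hX : IsAlgSpace X) (hY : IsAlgSpace Y) (hf : LocP @Flat f)
    (hfh : LocP @Flat (f ≫ h)) (x : Points X) : IsFlatAtMor h (Points.map f x) := by
  intro V W b c r v hb hc e hv
  have hP : IsAlgSpace (pullback f b) := isAlgSpace_pullback hY.diag hX (IsAlgSpace.yon_obj V) f b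
  obtain ⟨U, p, hpe, hps⟩ := hP.atlas
  obtain ⟨k, hk⟩ := (yon S).map_surjective (p ≫ pullback.snd f b)
  obtain ⟨q, -, hq⟩ := points_exists_of_isPullback (IsPullback.of_hasPullback f b) x
    (Points.schemeHomeo V v) (by rw [← hv, ofPt_comp_eq_map]; rfl)
  obtain ⟨u, rfl⟩ := surjective_ofPt hps q
  have hu : k.left u = v := by
    apply (Points.schemeHomeo V).injective
    rw [← hq, ← Points.map_yon_map_apply, hk, ofPt_comp_eq_map]
    exact Points.map_comp _ _ _
  have ha : RepWith @Etale (p ≫ pullback.fst f b) :=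
    repWith_comp hpe (repWith_of_isPullback (IsPullback.of_hasPullback f b).flip hb)
  have e₁ : (p ≫ pullback.fst f b) ≫ f = (yon S).map k ≫ b := by
    rw [Category.assoc, pullback.condition, ← Category.assoc, hk]
  haveI : Flat k.left := hf _ b k ha hb e₁
  haveI : Flat (k.left ≫ r.left) := hfh _ c (k ≫ r) ha hc
    (by rw [← Category.assoc, e₁, Category.assoc, e, Functor.map_comp, Category.assoc])
  rw [← hu]
  exact FlatLocus.flat_left_of_flat_comp k.left r.left u ((Flat.iff_flat_stalkMap _).1 inferInstance u)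
    ((Flat.iff_flat_stalkMap _).1 inferInstance u)

variable {iX : X₀ ⟶ X} {iY : Y₀ ⟶ Y} {iZ : Z₀ ⟶ Z} {f₀ : X₀ ⟶ Y₀} {g₀ : Y₀ ⟶ Z₀}

/-- Base changes along maps factoring through the closed part are base changes of the reduced morphism. -/
theorem locP_flat_baseChange (hcX : IsPullback iX (f₀ ≫ g₀) (f ≫ h) iZ) (hcY : IsPullback iY g₀ h iZ)
    (w : iX ≫ f = f₀ ≫ iY) (hX₀ : IsAlgSpace X₀) (hY₀ : IsAlgSpace Y₀) (hY : IsAlgSpace Y)
    (hZ : IsAlgSpace Z) (hf₀ : LocP @Flat f₀) {T : Over S} {z : (yon S).obj T ⟶ Z}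
    (σ : (yon S).obj T ⟶ Z₀) (hσ : σ ≫ iZ = z) {Xz Yz : Sp S} {pX : Xz ⟶ X} {qX : Xz ⟶ (yon S).obj T}
    {pY : Yz ⟶ Y} {qY : Yz ⟶ (yon S).obj T} {fz : Xz ⟶ Yz} (sX : IsPullback pX qX (f ≫ h) z)
    (sY : IsPullback pY qY h z) (e₁ : fz ≫ pY = pX ≫ f) (e₂ : fz ≫ qY = qX) : LocP @Flat fz := by
  subst hσ
  obtain ⟨ρX, hρX1, hρX2⟩ : ∃ l : Xz ⟶ X₀, l ≫ iX = pX ∧ l ≫ f₀ ≫ g₀ = qX ≫ σ :=
    ⟨hcX.lift pX (qX ≫ σ) (by rw [sX.w, Category.assoc]), hcX.lift_fst _ _ _, hcX.lift_snd _ _ _⟩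
  obtain ⟨ρY, hρY1, hρY2⟩ : ∃ l : Yz ⟶ Y₀, l ≫ iY = pY ∧ l ≫ g₀ = qY ≫ σ :=
    ⟨hcY.lift pY (qY ≫ σ) (by rw [sY.w, Category.assoc]), hcY.lift_fst _ _ _, hcY.lift_snd _ _ _⟩
  have sX₀ : IsPullback ρX qX (f₀ ≫ g₀) σ := IsPullback.of_right (by rw [hρX1]; exact sX) hρX2 hcX
  have sY₀ : IsPullback ρY qY g₀ σ := IsPullback.of_right (by rw [hρY1]; exact sY) hρY2 hcY
  have hsq : IsPullback ρX fz f₀ ρY := IsPullback.of_bot (by rw [e₂]; exact sX₀) (by
    apply hcY.hom_ext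
    · rw [Category.assoc, ← w, reassoc_of% hρX1, Category.assoc, hρY1, e₁]
    · rw [Category.assoc, hρX2, Category.assoc, hρY2, reassoc_of% e₂]) sY₀
  exact locP_of_isPullback hsq.flip hX₀ hY₀
    (isAlgSpace_of_isPullback hZ.diag hY (IsAlgSpace.yon_obj T) sY) hf₀

/-- Points of a thickened space lift to the closed part. -/
theorem exists_lift_field_of_thick (hi : IsThickMor iZ) {K : Type u} [Field K]
    (sK : Spec (CommRingCat.of K) ⟶ S) (z : (yon S).obj (Over.mk sK) ⟶ Z) :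
    ∃ σ : (yon S).obj (Over.mk sK) ⟶ Z₀, σ ≫ iZ = z := by
  obtain ⟨W, fst, snd, sq⟩ : ∃ (W : Over S) (fst : (yon S).obj W ⟶ Z₀) (snd : W ⟶ Over.mk sK),
      IsPullback fst ((yon S).map snd) iZ z := ⟨_, _, _, hi.1.isPullback z⟩
  obtain ⟨h1, h2⟩ := hi.2 _ _ _ sq
  haveI : IsClosedImmersion snd.left := h1
  haveI : Surjective snd.left := h2
  haveI : IsReduced (Over.mk sK).left := inferInstanceAs (IsReduced (Spec (CommRingCat.of K)))
  haveI : IsIso snd.left := isIso_of_isClosedImmersion_of_surjective _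
  haveI : IsIso snd := by
    haveI : IsIso ((Over.forget S).map snd) := ‹IsIso snd.left›
    exact isIso_of_reflects_iso snd (Over.forget S)
  exact ⟨inv ((yon S).map snd) ≫ fst, by rw [Category.assoc, sq.w, IsIso.inv_hom_id_assoc]⟩

/-- Flatness of a chart from flatness modulo a nilpotent ideal of the base. -/
theorem flat_specMap_of_baseChange {R A C : Type u} [CommRing R] [CommRing A] [CommRing C]
    (φ : R →+* A) (ψ : A →+* C) (I : Ideal R) (hI : IsNilpotent I) (hfl : (ψ.comp φ).Flat)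
    (h : (Ideal.quotientMap ((I.map φ).map ψ) ψ Ideal.le_comap_map).Flat) : ψ.Flat := by
  letI := φ.toAlgebra
  letI := ψ.toAlgebra
  letI : Algebra R C := (ψ.comp φ).toAlgebra
  haveI : IsScalarTower R A C := .of_algebraMap_eq fun _ => rfl
  haveI : Module.Flat R C := hfl
  haveI : Module.Flat (A ⧸ I.map φ) ((A ⧸ I.map φ) ⊗[A] C) :=
    (FlatLocus.quotLift_flat_iff (I.map φ) (Ideal.Quotient.mk ((I.map φ).map ψ))
      Ideal.Quotient.mk_surjective Ideal.mk_ker _ (RingHom.ext fun _ => rfl)).mp h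
  exact flat_of_nilpotent (A := A) (M := C) I hI

/-- Flatness of a finite order deformation. -/
theorem locP_flat_of_finThick (hcX : IsPullback iX (f₀ ≫ g₀) (f ≫ h) iZ) (hcY : IsPullback iY g₀ h iZ)
    (w : iX ≫ f = f₀ ≫ iY) (hX₀ : IsAlgSpace X₀) (hY₀ : IsAlgSpace Y₀) (hY : IsAlgSpace Y)
    (hZ : IsAlgSpace Z) (hi : IsFinThickMor iZ) (hfh : LocP @Flat (f ≫ h)) (hf₀ : LocP @Flat f₀) :
    LocP @Flat f := by
  obtain ⟨n, hi⟩ := hi
  intro U V a b k ha hb e
  obtain ⟨W₀, c₀, hce, hcs⟩ := hZ.atlas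
  obtain ⟨V₁, v, r₀, hve, hvs, hr, -⟩ := exists_etale_cover hce hcs (b ≫ h)
  have hU : IsPullback (pullback.fst k v).left (pullback.snd k v).left k.left v.left :=
    (IsPullback.of_hasPullback k v).map (Over.forget S)
  have hu : Etale (pullback.fst k v).left := MorphismProperty.of_isPullback (P := @Etale) hU.flip hve
  refine IsEtLocal.of_precomp (pullback.fst k v).left k.left hu
    (MorphismProperty.of_isPullback (P := @Surjective) hU.flip hvs) ?_
  suffices key : Flat (pullback.snd k v).left by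
    haveI : Etale v.left := hve
    haveI := key
    show Flat ((pullback.fst k v).left ≫ k.left)
    rw [hU.w]
    infer_instance
  have ha₁ : RepWith @Etale ((yon S).map (pullback.fst k v) ≫ a) := repWith_comp (repWith_yon_map hu) ha
  have hb₁ : RepWith @Etale ((yon S).map v ≫ b) := repWith_comp (repWith_yon_map hve) hb
  have e₁ : ((yon S).map (pullback.fst k v) ≫ a) ≫ f =
      (yon S).map (pullback.snd k v) ≫ (yon S).map v ≫ b := by
    rw [Category.assoc, e, ← Functor.map_comp_assoc, pullback.condition, Functor.map_comp, Category.assoc]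
  have e₂ : ((yon S).map v ≫ b) ≫ h = (yon S).map r₀ ≫ c₀ := by rw [Category.assoc, hr]
  generalize (yon S).map (pullback.fst k v) ≫ a = a₁ at ha₁ e₁
  generalize (yon S).map v ≫ b = b₁ at hb₁ e₁ e₂
  generalize pullback.snd k v = k₁ at e₁ ⊢
  rw [HasRingHomProperty.iff_exists_appLE (P := @Flat)
    (RingHom.Flat.stableUnderComposition.stableUnderCompositionWithLocalizationAway
      RingHom.Flat.holdsForLocalizationAway).left]
  intro x
  obtain ⟨_, ⟨W₁, hW, rfl⟩, hxW, -⟩ := W₀.left.isBasis_affineOpens.exists_subset_of_mem_open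
    (Set.mem_univ (r₀.left (k₁.left x))) isOpen_univ
  obtain ⟨_, ⟨V₂, hV, rfl⟩, hxV, hVW⟩ := V₁.left.isBasis_affineOpens.exists_subset_of_mem_open
    (show k₁.left x ∈ (r₀.left ⁻¹ᵁ W₁ : V₁.left.Opens) from hxW) (r₀.left ⁻¹ᵁ W₁).isOpen
  obtain ⟨_, ⟨U₂, hU₂, rfl⟩, hxU, hUV⟩ := (pullback k v).left.isBasis_affineOpens.exists_subset_of_mem_open
    (show x ∈ (k₁.left ⁻¹ᵁ V₂ : (pullback k v).left.Opens) from hxV) (k₁.left ⁻¹ᵁ V₂).isOpen
  refine ⟨⟨V₂, hV⟩, ⟨U₂, hU₂⟩, hxU, hUV, ?_⟩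
  let Z' : Over S := Over.mk (hW.fromSpec ≫ W₀.hom)
  haveI : IsAffine Z'.left := inferInstanceAs (IsAffine (Spec _))
  let jW : Z' ⟶ W₀ := Over.homMk hW.fromSpec rfl
  have hjW : Etale jW.left := inferInstanceAs (Etale hW.fromSpec)
  obtain ⟨R, iR, I, str, hI, ε, t₀, ht₀, -⟩ :=
    exists_chart_model_pow hi (q := (yon S).map jW ≫ c₀) (repWith_comp (repWith_yon_map hjW) hce)
  let jT : TT str ⟶ W₀ := ε.hom ≫ jW
  have hεi : IsIso ε.hom.left := inferInstanceAs (IsIso ((Over.forget S).map ε.hom))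
  have hjT : Etale jT.left := inferInstanceAs (Etale (ε.hom.left ≫ hW.fromSpec))
  have hεs : IsIso ε.inv.left := inferInstanceAs (IsIso ((Over.forget S).map ε.inv))
  obtain ⟨φ, hφ⟩ := Spec.map_surjective (Spec.map (r₀.left.appLE W₁ V₂ hVW) ≫ ε.inv.left)
  let ψ := k₁.left.appLE V₂ U₂ hUV
  let jV : TT (strR φ.hom str) ⟶ V₁ := Over.homMk hV.fromSpec (by
    show hV.fromSpec ≫ V₁.hom = Spec.map φ ≫ str
    have h3 : ε.inv.left ≫ str = hW.fromSpec ≫ W₀.hom := Over.w ε.inv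
    rw [hφ, Category.assoc, h3, ← Category.assoc, hW.SpecMap_appLE_fromSpec r₀.left hV hVW,
      Category.assoc, Over.w r₀])
  let jU : TT (strR ψ.hom (strR φ.hom str)) ⟶ pullback k v := Over.homMk hU₂.fromSpec (by
    show hU₂.fromSpec ≫ (pullback k v).hom = Spec.map ψ ≫ Spec.map φ ≫ str
    have h3 : hV.fromSpec ≫ V₁.hom = Spec.map φ ≫ str := Over.w jV
    rw [← h3, ← Category.assoc, hV.SpecMap_appLE_fromSpec k₁.left hU₂ hUV, Category.assoc, Over.w k₁])
  have hk₂ : jU ≫ k₁ = cc ψ.hom (strR φ.hom str) ≫ jV :=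
    Over.OverMorphism.ext (hV.SpecMap_appLE_fromSpec k₁.left hU₂ hUV).symm
  have hr₂ : jV ≫ r₀ = cc φ.hom str ≫ jT := Over.OverMorphism.ext (by
    show hV.fromSpec ≫ r₀.left = Spec.map φ ≫ ε.hom.left ≫ hW.fromSpec
    have h3 : ε.inv.left ≫ ε.hom.left = 𝟙 _ := congrArg CommaMorphism.left ε.inv_hom_id
    rw [hφ, Category.assoc, reassoc_of% h3, hW.SpecMap_appLE_fromSpec r₀.left hV hVW])
  have ha₂ : RepWith @Etale ((yon S).map jU ≫ a₁) :=
    repWith_comp (repWith_yon_map (inferInstanceAs (Etale hU₂.fromSpec))) ha₁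
  have hb₂ : RepWith @Etale ((yon S).map jV ≫ b₁) :=
    repWith_comp (repWith_yon_map (inferInstanceAs (Etale hV.fromSpec))) hb₁
  have hc₂ : RepWith @Etale ((yon S).map jT ≫ c₀) := repWith_comp (repWith_yon_map hjT) hce
  have e₁' : ((yon S).map jU ≫ a₁) ≫ f = (yon S).map (cc ψ.hom (strR φ.hom str)) ≫ (yon S).map jV ≫ b₁ := by
    rw [Category.assoc, e₁, ← Functor.map_comp_assoc, hk₂, Functor.map_comp, Category.assoc]
  have e₂' : ((yon S).map jV ≫ b₁) ≫ h = (yon S).map (cc φ.hom str) ≫ (yon S).map jT ≫ c₀ := by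
    rw [Category.assoc, e₂, ← Functor.map_comp_assoc, hr₂, Functor.map_comp, Category.assoc]
  have e₃ : ((yon S).map jU ≫ a₁) ≫ f ≫ h =
      (yon S).map (cc ψ.hom (strR φ.hom str) ≫ cc φ.hom str) ≫ (yon S).map jT ≫ c₀ := by
    rw [← Category.assoc, e₁', Category.assoc, e₂']
    simp only [Functor.map_comp, Category.assoc]
  have hfl : RingHom.Flat (ψ.hom.comp φ.hom) := by
    have h3 : Flat (Spec.map ψ ≫ Spec.map φ) := hfh _ _ _ ha₂ hc₂ e₃
    rw [← Spec.map_comp] at h3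
    exact (HasRingHomProperty.Spec_iff (P := @Flat) (φ := φ ≫ ψ)).1 h3
  have hz : t₀ ≫ iZ = (yon S).map (qI I str) ≫ (yon S).map jT ≫ c₀ := by
    rw [ht₀]
    simp only [jT, Functor.map_comp, Category.assoc]
  obtain ⟨α, hα, hα1, hα2⟩ := exists_fibre_chart (F := f ≫ h) ha₂ hc₂ e₃ (qI I str)
  obtain ⟨β, hβ, hβ1, hβ2⟩ := exists_fibre_chart (F := h) hb₂ hc₂ e₂' (qI I str)
  let fz : pullback (f ≫ h) ((yon S).map (qI I str) ≫ (yon S).map jT ≫ c₀) ⟶
      pullback h ((yon S).map (qI I str) ≫ (yon S).map jT ≫ c₀) :=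
    pullback.lift (pullback.fst _ _ ≫ f) (pullback.snd _ _) (by rw [Category.assoc]; exact pullback.condition)
  have hfz : LocP @Flat fz := locP_flat_baseChange hcX hcY w hX₀ hY₀ hY hZ hf₀ t₀ hz
    (IsPullback.of_hasPullback _ _) (IsPullback.of_hasPullback _ _) (pullback.lift_fst _ _ _) (pullback.lift_snd _ _ _)
  have sA : IsPullback (qI (I.map φ.hom) (strR φ.hom str)) (cc0 φ.hom I str) (cc φ.hom str) (qI I str) :=
    IsPullback.of_map (Over.forget S) (cc0_qI φ.hom I str).symm (isPullback_cc0 φ.hom I str)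
  have sC₀ : IsPullback (qI ((I.map φ.hom).map ψ.hom) (strR ψ.hom (strR φ.hom str)))
      (cc0 ψ.hom (I.map φ.hom) (strR φ.hom str)) (cc ψ.hom (strR φ.hom str)) (qI (I.map φ.hom) (strR φ.hom str)) :=
    IsPullback.of_map (Over.forget S) (cc0_qI ψ.hom (I.map φ.hom) (strR φ.hom str)).symm
      (isPullback_cc0 ψ.hom (I.map φ.hom) (strR φ.hom str))
  have sC := sC₀.paste_vert sA
  let kI := cc0 ψ.hom (I.map φ.hom) (strR φ.hom str)
  have hsq : ((yon S).map sC.isoPullback.hom ≫ α) ≫ fz = (yon S).map kI ≫ (yon S).map sA.isoPullback.hom ≫ β := by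
    apply pullback.hom_ext
    · simp only [fz, Category.assoc, pullback.lift_fst]
      rw [reassoc_of% hα1, show (yon S).map jU ≫ a₁ ≫ f = _ from (Category.assoc _ _ _).symm.trans e₁', hβ1]
      simp only [← Functor.map_comp_assoc, IsPullback.isoPullback_hom_fst_assoc, IsPullback.isoPullback_hom_fst]
      rw [sC₀.w_assoc]
    · simp only [fz, Category.assoc, pullback.lift_snd]
      rw [hα2, hβ2]
      simp only [← Functor.map_comp, IsPullback.isoPullback_hom_snd, kI]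
  have hiso : ∀ {P Q : Over S} (i : P ≅ Q), RepWith @Etale ((yon S).map i.hom) := fun i => repWith_of_isIso _
  have hkI : Flat kI.left := hfz _ _ kI (repWith_comp (hiso _) hα) (repWith_comp (hiso _) hβ) hsq
  exact flat_specMap_of_baseChange φ.hom ψ.hom I ⟨n + 1, hI⟩ hfl
    ((HasRingHomProperty.Spec_iff (P := @Flat)).1 hkI)

end Groth.Agent.FibreFlatSp
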