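import Groth.Agent.FibreFlatSp.DeformList
import Groth.Agent.ASp.OpenImm
import Groth.Agent.ASp.Sheaf
import Groth.Agent.ASp.AffMor

/-!
Global properties of deformations of morphisms of algebraic spaces.
-/

set_option autoImplicit false
set_option backward.isDefEq.respectTransparency false
set_option backward.isDefEq.respectTransparency.types false

universe u

open CategoryTheory CategoryTheory.Limits AlgebraicGeometry

namespace Groth.Agent.FibreFlatSp

open _root_.AlgSp Groth.Agent.ASp Groth.Agent.Inf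

variable {S : Scheme.{u}} {X Y Z X₀ Y₀ Z₀ : Sp S} {f : X ⟶ Y} {h : Y ⟶ Z}
  {iX : X₀ ⟶ X} {iY : Y₀ ⟶ Y} {iZ : Z₀ ⟶ Z} {f₀ : X₀ ⟶ Y₀} {g₀ : Y₀ ⟶ Z₀}

/-- The diagonal of a deformation is a deformation of the diagonal. -/
theorem exists_diag_deform (hcX : IsPullback iX (f₀ ≫ g₀) (f ≫ h) iZ) (hcY : IsPullback iY g₀ h iZ)
    (w : iX ≫ f = f₀ ≫ iY) :
    ∃ i₁ : pullback f₀ f₀ ⟶ pullback f f,
      IsPullback i₁ (pullback.fst f₀ f₀ ≫ f₀ ≫ g₀) (pullback.fst f f ≫ f ≫ h) iZ ∧
      iX ≫ pullback.diagonal f = pullback.diagonal f₀ ≫ i₁ := by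
  have hc := isPullback_deform hcX hcY w
  refine ⟨pullback.lift (pullback.fst f₀ f₀ ≫ iX) (pullback.snd f₀ f₀ ≫ iX) (by
    rw [Category.assoc, Category.assoc, w, pullback.condition_assoc]), ?_, ?_⟩
  · refine IsPullback.paste_vert (IsPullback.of_right ?_ (pullback.lift_fst _ _ _)
      (IsPullback.of_hasPullback f f).flip) hcX
    rw [pullback.lift_snd, w]
    exact (IsPullback.of_hasPullback f₀ f₀).flip.paste_horiz hc
  · apply pullback.hom_ext
    · simp
    · simp

/-- A deformation whose diagonal is etale is a monomorphism, if the reduced morphism is one. -/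
theorem mono_of_diag_etale {i₁ : pullback f₀ f₀ ⟶ pullback f f}
    (w₁ : iX ≫ pullback.diagonal f = pullback.diagonal f₀ ≫ i₁) (hi₁ : IsThickMor i₁) (hX : IsAlgSpace X)
    (hY : IsAlgSpace Y) [Mono f₀] (he : LocP @Etale (pullback.diagonal f)) : Mono f := by
  haveI : IsIso (pullback.diagonal f₀) := inferInstance
  haveI : Mono (pullback.diagonal f) := inferInstance
  have hs : Function.Surjective (Points.map (pullback.diagonal f)) := fun y => by
    obtain ⟨z, rfl⟩ := (isHomeomorph_map_of_thick hi₁).surjective y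
    refine ⟨Points.map iX (Points.map (inv (pullback.diagonal f₀)) z), ?_⟩
    rw [← Points.map_comp, ← Points.map_comp, w₁, IsIso.inv_hom_id_assoc]
  haveI := isIso_of_mono_etale_surjective hX (isAlgSpace_pullback hY.diag hX hX f f) _ he hs
  refine ⟨fun {T} a b hab => ?_⟩
  have h1 : pullback.lift a b hab ≫ pullback.fst f f = pullback.lift a b hab ≫ pullback.snd f f :=
    congrArg (pullback.lift a b hab ≫ ·)
      ((cancel_epi (pullback.diagonal f)).1 (by rw [pullback.diagonal_fst, pullback.diagonal_snd]))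
  rwa [pullback.lift_fst, pullback.lift_snd] at h1

/-- Properties of a cartesian thickening built from the local ones. -/
theorem global_list {i : X₀ ⟶ X} {j : Y₀ ⟶ Y} (hi : IsThickMor i) (hj : IsThickMor j)
    (hc : IsPullback i f₀ f j) (hX : IsAlgSpace X) (hY : IsAlgSpace Y) (hX₀ : IsAlgSpace X₀) (hY₀ : IsAlgSpace Y₀)
    (Hflat : LocP @Flat f₀ → LocP @Flat f)
    (Hfp : LocP @LocallyOfFinitePresentation f₀ → LocP @LocallyOfFinitePresentation f)
    (Hmono : Mono f₀ → Mono f) :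
    (IsIso f₀ ↔ IsIso f) ∧
    (RepWith @IsOpenImmersion f₀ ↔ RepWith @IsOpenImmersion f) ∧
    (Mono f₀ ↔ Mono f) ∧
    (IsFinLocFreeMor f₀ ↔ IsFinLocFreeMor f) ∧
    (∀ d : ℕ, IsFinLocFreeOfDegMor d f₀ ↔ IsFinLocFreeOfDegMor d f) := by
  have hoi : RepWith @IsOpenImmersion f₀ → Mono f ∧ LocP @Etale f := fun h => by
    have he : LocP @Etale f₀ := locP_of_repWith
      (repWith_mono (fun _ _ g (hg : IsOpenImmersion g) => (inferInstance : Etale g)) h)
    refine ⟨Hmono (mono_of_repWith (P := @IsOpenImmersion)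
      (fun g hg => haveI : IsOpenImmersion g := hg; inferInstance) h), ?_⟩
    exact locP_etale_of_thick hi hj hc (Hflat (locP_le (fun g (hg : Etale g) => (inferInstance : Flat g)) he))
      (Hfp (locP_le (fun g (hg : Etale g) => (inferInstance : LocallyOfFinitePresentation g)) he)) he
  have hflf : IsFinLocFreeMor f₀ → IsFinLocFreeMor f := fun h => by
    have h1 : LocP @Flat f := Hflat (locP_of_repWith (repWith_mono (fun _ _ g hg => hg.2.1) h))
    have h2 : LocP @LocallyOfFinitePresentation f :=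
      Hfp (locP_of_repWith (repWith_mono (fun _ _ g hg => hg.2.2) h))
    have h3 := (isFiniteMor_iff hX hY).1 ((isFiniteMor_thick_iff hi hj hc hX₀ hX hY₀ hY
      (locP_le (fun g (hg : LocallyOfFinitePresentation g) => (inferInstance : LocallyOfFiniteType g)) h2)).1
      ((isFiniteMor_iff hX₀ hY₀).2 (repWith_mono (fun _ _ g hg => hg.1) h)))
    have h4 := repWith_of_locP hY h3.1 h1
    have h5 := repWith_of_locP hY h3.1 h2
    exact ⟨h3.1, fun T W g fst snd sq => ⟨h3.2 _ _ _ sq, h4.2 _ _ _ sq, h5.2 _ _ _ sq⟩⟩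
  refine ⟨⟨fun h => ?_, fun h => hc.isIso_snd_of_isIso⟩, ⟨fun h => ?_, fun h => repWith_of_isPullback hc h⟩,
    ⟨Hmono, fun h => hc.mono_snd_of_mono⟩, ⟨hflf, fun h => repWith_of_isPullback hc h⟩,
    fun d => ⟨fun h => ?_, fun h => repWith_of_isPullback hc h⟩⟩
  · haveI := h
    obtain ⟨hm, he⟩ := hoi (repWith_of_isIso (P := @IsOpenImmersion) f₀)
    haveI := hm
    refine isIso_of_mono_etale_surjective hX hY f he fun y => ?_
    obtain ⟨z, rfl⟩ := (isHomeomorph_map_of_thick hj).surjective y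
    refine ⟨Points.map i (Points.map (inv f₀) z), ?_⟩
    rw [← Points.map_comp, ← Points.map_comp, hc.w, IsIso.inv_hom_id_assoc]
  · obtain ⟨hm, he⟩ := hoi h
    haveI := hm
    exact repWith_isOpenImmersion_of_mono_etale hX hY f he
  · have hf := hflf (repWith_mono (fun _ _ g hg => hg.1) h)
    refine ⟨hf.1, fun T W g fst snd sq => ⟨hf.2 _ _ _ sq, fun y => ?_⟩⟩
    haveI : IsFinite snd.left := (hf.2 _ _ _ sq).1
    haveI : Flat snd.left := (hf.2 _ _ _ sq).2.1
    obtain ⟨T₀, g', ιT, sqT⟩ : ∃ (T₀ : Over S) (g' : (yon S).obj T₀ ⟶ Y₀) (ιT : T₀ ⟶ T),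
        IsPullback g' ((yon S).map ιT) j g := ⟨_, _, _, hj.1.isPullback g⟩
    obtain ⟨y₀, rfl⟩ := (hj.2 _ _ _ sqT).2.surj y
    obtain ⟨W₀, fst₀, snd₀, sq₀⟩ : ∃ (W₀ : Over S) (fst₀ : (yon S).obj W₀ ⟶ X₀) (snd₀ : W₀ ⟶ T₀),
        IsPullback fst₀ ((yon S).map snd₀) f₀ g' := ⟨_, _, _, h.1.isPullback g'⟩
    have hout := sq₀.paste_horiz hc
    rw [sqT.w] at hout
    obtain ⟨ιW, hιW⟩ := (yon S).map_surjective (sq.lift (fst₀ ≫ i) ((yon S).map (snd₀ ≫ ιT))
      (by rw [hout.w, Functor.map_comp, Category.assoc]))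
    have hw1 : (yon S).map ιW ≫ fst = fst₀ ≫ i := by rw [hιW, sq.lift_fst]
    have hw2 : (yon S).map ιW ≫ (yon S).map snd = (yon S).map snd₀ ≫ (yon S).map ιT := by
      rw [hιW, sq.lift_snd, Functor.map_comp]
    rw [← hw1] at hout
    have sqs : IsPullback ((yon S).map ιW) ((yon S).map snd₀) ((yon S).map snd) ((yon S).map ιT) :=
      IsPullback.of_right hout hw2 sq
    exact (Scheme.Hom.finrank_of_isPullback _ _ _ _ (isPullback_left (isPullback_of_yon_map sqs)) y₀).symm.trans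
      ((h.2 _ _ _ sq₀).2 y₀)

/-- Monomorphisms deform over finite order thickenings. -/
theorem mono_of_finThick (hcX : IsPullback iX (f₀ ≫ g₀) (f ≫ h) iZ) (hcY : IsPullback iY g₀ h iZ)
    (w : iX ≫ f = f₀ ≫ iY) (hX₀ : IsAlgSpace X₀) (hY₀ : IsAlgSpace Y₀) (hX : IsAlgSpace X) (hY : IsAlgSpace Y)
    (hZ : IsAlgSpace Z) (hi : IsFinThickMor iZ) (hfh : LocP @Flat (f ≫ h)) [Mono f₀] : Mono f := by
  obtain ⟨i₁, hc₁, w₁⟩ := exists_diag_deform hcX hcY w
  have hcD : IsPullback iX (pullback.diagonal f₀ ≫ pullback.fst f₀ f₀ ≫ f₀ ≫ g₀)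
      (pullback.diagonal f ≫ pullback.fst f f ≫ f ≫ h) iZ := by simpa using hcX
  have hfl : LocP @Flat (pullback.diagonal f ≫ pullback.fst f f ≫ f ≫ h) := by simpa using hfh
  have hW := isAlgSpace_pullback hY.diag hX hX f f
  have hW₀ := isAlgSpace_pullback hY₀.diag hX₀ hX₀ f₀ f₀
  have hi1 : IsThickMor iX := (isFinThickMor_of_isPullback hcX.flip hi hZ).elim fun _ h => h.1
  have hi₁ : IsThickMor i₁ := (isFinThickMor_of_isPullback hc₁.flip hi hZ).elim fun _ h => h.1
  have he : LocP @Etale (pullback.diagonal f₀) := locP_of_repWith (repWith_of_isIso (P := @Etale) _)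
  refine mono_of_diag_etale w₁ hi₁ hX hY (locP_etale_of_thick hi1 hi₁ (isPullback_deform hcD hc₁ w₁) ?_ ?_ he)
  · exact locP_flat_of_finThick hcD hc₁ w₁ hX₀ hW₀ hW hZ hi hfl
      (locP_le (fun g (hg : Etale g) => (inferInstance : Flat g)) he)
  · exact locP_lfp_of_finThick hcD hc₁ w₁ hX₀ hW₀ hW hZ hi hfl
      (locP_le (fun g (hg : Etale g) => (inferInstance : LocallyOfFinitePresentation g)) he)

/-- Monomorphisms deform over thickenings, given finite type hypotheses. -/
theorem mono_of_thick_fp (hcX : IsPullback iX (f₀ ≫ g₀) (f ≫ h) iZ) (hcY : IsPullback iY g₀ h iZ)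
    (w : iX ≫ f = f₀ ≫ iY) (hX₀ : IsAlgSpace X₀) (hY₀ : IsAlgSpace Y₀) (hX : IsAlgSpace X) (hY : IsAlgSpace Y)
    (hZ : IsAlgSpace Z) (hi : IsThickMor iZ) (hg : LocP @LocallyOfFiniteType h) (hfh : LocP @Flat (f ≫ h))
    (hfp : LocP @LocallyOfFinitePresentation (f ≫ h)) [Mono f₀] : Mono f := by
  obtain ⟨i₁, hc₁, w₁⟩ := exists_diag_deform hcX hcY w
  have hcD : IsPullback iX (pullback.diagonal f₀ ≫ pullback.fst f₀ f₀ ≫ f₀ ≫ g₀)
      (pullback.diagonal f ≫ pullback.fst f f ≫ f ≫ h) iZ := by simpa using hcX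
  have hfl : LocP @Flat (pullback.diagonal f ≫ pullback.fst f f ≫ f ≫ h) := by simpa using hfh
  have hp : LocP @LocallyOfFinitePresentation (pullback.diagonal f ≫ pullback.fst f f ≫ f ≫ h) := by
    simpa using hfp
  have hW := isAlgSpace_pullback hY.diag hX hX f f
  have hW₀ := isAlgSpace_pullback hY₀.diag hX₀ hX₀ f₀ f₀
  have hi1 : IsThickMor iX := repWith_of_isPullback hcX.flip hi
  have hi₁ : IsThickMor i₁ := repWith_of_isPullback hc₁.flip hi
  have ht : LocP @LocallyOfFiniteType (f ≫ h) :=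
    locP_le (fun g (hg : LocallyOfFinitePresentation g) => (inferInstance : LocallyOfFiniteType g)) hfp
  have hft : LocP @LocallyOfFiniteType f := locP_of_comp (P := @LocallyOfFiniteType) (Q := @LocallyOfFiniteType)
    (fun a b h₁ _ => by
      haveI := h₁
      exact locallyOfFiniteType_of_comp a b) hZ ht hg
  have hh₁ : LocP @LocallyOfFiniteType (pullback.fst f f ≫ f ≫ h) :=
    locP_comp hX (locP_of_isPullback (IsPullback.of_hasPullback f f) hX hY hX hft) ht
  have he : LocP @Etale (pullback.diagonal f₀) := locP_of_repWith (repWith_of_isIso (P := @Etale) _)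
  refine mono_of_diag_etale w₁ hi₁ hX hY (locP_etale_of_thick hi1 hi₁ (isPullback_deform hcD hc₁ w₁) ?_ ?_ he)
  · exact locP_flat_of_thick_fp hcD hc₁ w₁ hX hW hZ hX₀ hW₀ hi hh₁ hfl hp
      (locP_le (fun g (hg : Etale g) => (inferInstance : Flat g)) he)
  · exact locP_of_comp (P := @LocallyOfFinitePresentation) (Q := @LocallyOfFiniteType)
      (fun a b h₁ h₂ => by
        haveI := h₁; haveI := h₂
        exact FlatLocus.locallyOfFinitePresentation_of_comp a b) hZ hp hh₁

end Groth.Agent.FibreFlatSp
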