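import Groth.Agent.FibreFlatSp.DeformProps
import Groth.Agent.FibreDimEt.Sp

/-!
Local properties of deformations of morphisms of algebraic spaces.
-/

set_option autoImplicit false
set_option backward.isDefEq.respectTransparency false
set_option backward.isDefEq.respectTransparency.types false

universe u

open CategoryTheory CategoryTheory.Limits AlgebraicGeometry

namespace Groth.Agent.FibreFlatSp

open _root_.AlgSp Groth.Agent.ASp Groth.Agent.Inf

variable {S : Scheme.{u}}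

theorem locP_le {P Q : MorphismProperty Scheme.{u}} {X Y : Sp S} {f : X ⟶ Y}
    (hle : ∀ {A B : Scheme.{u}} (g : A ⟶ B), P g → Q g) (h : LocP P f) : LocP Q f :=
  fun _ _ a b k ha hb e => hle _ (h a b k ha hb e)

variable {X Y Z X₀ Y₀ Z₀ : Sp S} {f : X ⟶ Y} {h : Y ⟶ Z}
  {iX : X₀ ⟶ X} {iY : Y₀ ⟶ Y} {iZ : Z₀ ⟶ Z} {f₀ : X₀ ⟶ Y₀} {g₀ : Y₀ ⟶ Z₀}

/-- The square of a deformation is cartesian. -/
theorem isPullback_deform (hcX : IsPullback iX (f₀ ≫ g₀) (f ≫ h) iZ) (hcY : IsPullback iY g₀ h iZ)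
    (w : iX ≫ f = f₀ ≫ iY) : IsPullback iX f₀ f iY := IsPullback.of_bot hcX w hcY

/-- The properties of a cartesian thickening, given those obtained by lifting. -/
theorem local_list {i : X₀ ⟶ X} {j : Y₀ ⟶ Y} (hi : IsThickMor i) (hj : IsThickMor j)
    (hc : IsPullback i f₀ f j) (hX : IsAlgSpace X) (hY : IsAlgSpace Y) (hY₀ : IsAlgSpace Y₀)
    (Hflat : LocP @Flat f₀ → LocP @Flat f)
    (Hft : LocP @LocallyOfFiniteType f₀ → LocP @LocallyOfFiniteType f)
    (Hfp : LocP @LocallyOfFinitePresentation f₀ → LocP @LocallyOfFinitePresentation f) (d : ℕ) :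
    ((LocP @LocallyOfFiniteType f₀ ∧
        ∀ x, HasAtMor (fun _ _ k u => FlatMor.fibreDimAt k u = (d : WithBot ℕ∞)) f₀ x) ↔
      (LocP @LocallyOfFiniteType f ∧
        ∀ x', HasAtMor (fun _ _ k u => FlatMor.fibreDimAt k u = (d : WithBot ℕ∞)) f x')) ∧
    (LocP @Flat f₀ ↔ LocP @Flat f) ∧
    (LocP @LocallyOfFiniteType f₀ ↔ LocP @LocallyOfFiniteType f) ∧
    (LocP (@LocallyQuasiFinite ⊓ @LocallyOfFiniteType) f₀ ↔
      LocP (@LocallyQuasiFinite ⊓ @LocallyOfFiniteType) f) ∧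
    (LocP @LocallyOfFinitePresentation f₀ ↔ LocP @LocallyOfFinitePresentation f) ∧
    (LocP @Smooth f₀ ↔ LocP @Smooth f) ∧
    (LocP (@LocallyOfFiniteType ⊓ @FormallyUnramified) f₀ ↔
      LocP (@LocallyOfFiniteType ⊓ @FormallyUnramified) f) ∧
    (IsEtaleMor f₀ ↔ IsEtaleMor f) := by
  have back : ∀ {P : MorphismProperty Scheme.{u}} [IsEtLocal P], LocP P f → LocP P f₀ :=
    fun h => locP_of_isPullback hc.flip hX hY hY₀ h
  refine ⟨and_congr ⟨Hft, back⟩ (FibreDimEt.hasAtMor_fibreDim_thick_iff hi hj hc hX hY _), ⟨Hflat, back⟩,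
    ⟨Hft, back⟩, ⟨fun h => locP_lqf_of_thick hi hj hc (Hft (locP_le (fun _ hg => hg.2) h)) h, back⟩,
    ⟨Hfp, back⟩, ⟨fun h => ?_, back⟩,
    ⟨fun h => locP_unramified_of_thick hi hj hc (Hft (locP_le (fun _ hg => hg.1) h)) h, back⟩, ?_⟩
  · exact locP_smooth_of_thick hi hj hc
      (Hflat (locP_le (fun g (hg : Smooth g) => (inferInstance : Flat g)) h))
      (Hfp (locP_le (fun g (hg : Smooth g) => (inferInstance : LocallyOfFinitePresentation g)) h)) h
  · rw [isEtaleMor_iff_locP hY₀, isEtaleMor_iff_locP hY]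
    refine ⟨fun h => ?_, back⟩
    exact locP_etale_of_thick hi hj hc
      (Hflat (locP_le (fun g (hg : Etale g) => (inferInstance : Flat g)) h))
      (Hfp (locP_le (fun g (hg : Etale g) => (inferInstance : LocallyOfFinitePresentation g)) h)) h

/-- Flatness of a deformation over a thickened base, given finite type hypotheses. -/
theorem locP_flat_of_thick_fp (hcX : IsPullback iX (f₀ ≫ g₀) (f ≫ h) iZ) (hcY : IsPullback iY g₀ h iZ)
    (w : iX ≫ f = f₀ ≫ iY) (hX : IsAlgSpace X) (hY : IsAlgSpace Y) (hZ : IsAlgSpace Z)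
    (hX₀ : IsAlgSpace X₀) (hY₀ : IsAlgSpace Y₀) (hi : IsThickMor iZ)
    (hg : LocP @LocallyOfFiniteType h) (hflat : LocP @Flat (f ≫ h))
    (hfp : LocP @LocallyOfFinitePresentation (f ≫ h)) (hf : LocP @Flat f₀) : LocP @Flat f := by
  refine (flat_of_flat_fibres
    (Q := fun {U V W} k r => LocallyOfFinitePresentation (k ≫ r) ∧ LocallyOfFiniteType r) ?_
    hX hY hZ ?_ hflat ?_).1
  · intro U V W k r hQ _ hfl' u
    haveI := hQ.1
    haveI := hQ.2
    haveI := FlatLocus.locallyOfFinitePresentation_of_comp k r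
    exact (FlatLocus.fibre_criterion k r _ _ u (Scheme.Hom.fiberι_asFiber (k ≫ r) u)).1
      ⟨(Flat.iff_flat_stalkMap _).1 inferInstance u, (Flat.iff_flat_stalkMap _).1 (hfl' _) _⟩
  · intro U V W a b c k r ha hb hc e₁ e₂
    refine ⟨hfp a c (k ≫ r) ha hc ?_, hg b c r hb hc e₂⟩
    show a ≫ f ≫ h = _
    rw [← Category.assoc, e₁, Category.assoc, e₂, Functor.map_comp, Category.assoc]
  · intro K _ sK z Xz Yz pX qX pY qY fz sX sY e₁ e₂
    obtain ⟨σ, hσ⟩ := exists_lift_field_of_thick hi sK z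
    exact locP_flat_baseChange hcX hcY w hX₀ hY₀ hY hZ hf σ hσ sX sY e₁ e₂

end Groth.Agent.FibreFlatSp
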