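import Groth.Agent.FlatLocus.FibreCrit
import Groth.Agent.S0392

/-!
The fibrewise criterion of flatness for locally noetherian schemes.
-/

set_option autoImplicit false
set_option linter.style.haveILetI false
set_option backward.isDefEq.respectTransparency false
set_option backward.defeqAttrib.useBackward true

universe u

open CategoryTheory CategoryTheory.Limits AlgebraicGeometry TensorProduct IsLocalRing
open Groth.Agent.FlatLocus

namespace Groth.Agent.FibreFlatSp

variable {X Y S : Scheme.{u}} (f : X ⟶ Y) (g : Y ⟶ S)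

theorem flat_stalkMap_of_fibre_noeth [IsLocallyNoetherian X] [IsLocallyNoetherian Y] [IsLocallyNoetherian S]
    (s : S) (z : (f ≫ g).fiber s)
    (h1 : ((f ≫ g).stalkMap ((f ≫ g).fiberι s z)).hom.Flat)
    (h2 : ((MoreMor.fiberMap f g s).stalkMap z).hom.Flat) :
    (g.stalkMap (f ((f ≫ g).fiberι s z))).hom.Flat ∧
      (f.stalkMap ((f ≫ g).fiberι s z)).hom.Flat := by
  let x := (f ≫ g).fiberι s z
  let y := f x
  let w := MoreMor.fiberMap f g s z
  let φY := toFiberStalk g s w y (fiberι_fiberMap f g s z)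
  let φX := ((f ≫ g).fiberι s).stalkMap z
  let ψ := (MoreMor.fiberMap f g s).stalkMap z
  obtain ⟨hYs, hYk⟩ := toFiberStalk_spec g s w y (fiberι_fiberMap f g s z)
  let I : Ideal (Y.presheaf.stalk y) := (maximalIdeal (S.presheaf.stalk (g y))).map (g.stalkMap y).hom
  letI := (g.stalkMap y).hom.toAlgebra
  letI := (f.stalkMap x).hom.toAlgebra
  letI : Algebra (S.presheaf.stalk (g y)) (X.presheaf.stalk x) := ((f ≫ g).stalkMap x).hom.toAlgebra
  haveI : IsScalarTower (S.presheaf.stalk (g y)) (Y.presheaf.stalk y) (X.presheaf.stalk x) :=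
    .of_algebraMap_eq fun r => ConcreteCategory.congr_hom (Scheme.Hom.stalkMap_comp f g x) r
  haveI : IsLocalHom (algebraMap (S.presheaf.stalk (g y)) (Y.presheaf.stalk y)) := g.toLRSHom.prop y
  haveI : IsLocalHom (algebraMap (Y.presheaf.stalk y) (X.presheaf.stalk x)) := f.toLRSHom.prop x
  haveI : Module.Flat (S.presheaf.stalk (g y)) (X.presheaf.stalk x) := h1
  have hker : RingHom.ker φX.hom = I.map (algebraMap (Y.presheaf.stalk y) (X.presheaf.stalk x)) := by
    rw [ker_fiberι_stalkMap (f ≫ g) s z, Ideal.map_map, Scheme.Hom.stalkMap_comp]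
    rfl
  let eY : Y.presheaf.stalk y ⧸ I →+* (g.fiber s).presheaf.stalk w :=
    Ideal.Quotient.lift I φY.hom fun a ha => by rw [← RingHom.mem_ker, hYk]; exact ha
  have heY : Function.Bijective eY := by
    refine ⟨?_, fun c => ?_⟩
    · refine RingHom.lift_injective_of_ker_le_ideal I _ ?_
      rw [hYk]
    · obtain ⟨a, rfl⟩ := hYs c
      exact ⟨Ideal.Quotient.mk I a, rfl⟩
  have hψ : (ψ.hom.comp eY).Flat := (RingHom.Flat.of_bijective heY).comp h2
  have h : Module.Flat (Y.presheaf.stalk y ⧸ I) ((Y.presheaf.stalk y ⧸ I) ⊗[Y.presheaf.stalk y] X.presheaf.stalk x) :=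
    (quotLift_flat_iff I φX.hom (fiberι_stalkMap_surjective (f ≫ g) s z) hker _
      (RingHom.ext fun a => ConcreteCategory.congr_hom (toFiberStalk_comp f g s z) a)).mp hψ
  exact S0392.result (R := S.presheaf.stalk (g y)) (S := Y.presheaf.stalk y) (S' := X.presheaf.stalk x) h

end Groth.Agent.FibreFlatSp
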